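import Cfsg.Agent.Lib.Elem70.SpecEight.Tori
import Cfsg.Agent.Lib.Forms.TwoTranspositions

/-!
# Unipotent elements of small orthogonal groups in characteristic two

Owner: helper70.
-/

set_option autoImplicit false
set_option linter.unusedSectionVars false
set_option linter.unusedSimpArgs false
set_option linter.style.haveILetI false

namespace Cfsg.Agent.Lib.Elem70.SpecEight

open Module QuadraticMap Cfsg.Agent.Lib.Forms Cfsg.Agent.Lib.Elem70.ClassCount

universe u

variable {F : Type u} [Field F] [Finite F] [CharP F 2]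

/-- An element of order `n` in an orthogonal group of sign `ε`. -/
def Uni (F : Type u) [Field F] [Finite F] (m : ℕ) (ε : ℤ) (n : ℕ) : Prop :=
  ∃ (Q : QuadraticForm F (Fin (2 * m) → F)) (g : orth Q), Nondeg Q ∧ HasSign Q m ε ∧ orderOf g = n

/-- An element of Dickson invariant zero and order `n` whose norm is not zero. -/
def UniN (F : Type u) [Field F] [Finite F] (m : ℕ) (ε : ℤ) (n : ℕ) : Prop :=
  ∃ (Q : QuadraticForm F (Fin (2 * m) → F)) (g : orth Q) (w : Fin (2 * m) → F), Nondeg Q ∧ HasSign Q m ε ∧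
    orderOf g = n ∧ dickson Q g = 0 ∧ ∑ i ∈ Finset.range n, (g ^ i).1 w ≠ 0

theorem orthCongr_apply' {V W : Type*} [AddCommGroup V] [Module F V] [AddCommGroup W] [Module F W]
    {Q : QuadraticForm F V} {Q' : QuadraticForm F W} (e : Q.IsometryEquiv Q') (g : orth Q) (v : V) :
    (orthCongr e g).1 (e.toLinearEquiv v) = e.toLinearEquiv (g.1 v) := by
  show e.toLinearEquiv (g.1 (e.toLinearEquiv.symm (e.toLinearEquiv v))) = _
  rw [LinearEquiv.symm_apply_apply]

theorem dickson_orthCongr {V W : Type*} [AddCommGroup V] [Module F V] [AddCommGroup W] [Module F W]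
    {Q : QuadraticForm F V} {Q' : QuadraticForm F W} (e : Q.IsometryEquiv Q') (g : orth Q) :
    dickson Q' (orthCongr e g) = dickson Q g := by
  have h : LinearMap.range (dev (orthCongr e g).1) =
      (LinearMap.range (dev g.1)).map (e.toLinearEquiv : V →ₗ[F] W) := by
    have : dev (orthCongr e g).1 =
        ((e.toLinearEquiv : V →ₗ[F] W).comp (dev g.1)).comp (e.toLinearEquiv.symm : W →ₗ[F] V) := by
      refine LinearMap.ext fun w => ?_
      show e.toLinearEquiv (g.1 (e.toLinearEquiv.symm w)) - w =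
        e.toLinearEquiv (g.1 (e.toLinearEquiv.symm w) - e.toLinearEquiv.symm w)
      rw [map_sub, LinearEquiv.apply_symm_apply]
    rw [this, LinearMap.range_comp_of_range_eq_top _ (LinearEquiv.range _), LinearMap.range_comp]
  rw [dickson, dickson, h, LinearEquiv.finrank_map_eq]

theorem dickson_orthProd {V V' : Type*} [AddCommGroup V] [Module F V] [FiniteDimensional F V]
    [AddCommGroup V'] [Module F V'] [FiniteDimensional F V']
    (Q : QuadraticForm F V) (Q' : QuadraticForm F V') (g : orth Q) (g' : orth Q') :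
    dickson (Q.prod Q') (SylowOrth52.orthProd Q Q' (g, g')) = dickson Q g + dickson Q' g' := by
  have h : LinearMap.range (dev (SylowOrth52.orthProd Q Q' (g, g')).1) =
      (LinearMap.range (dev g.1)).prod (LinearMap.range (dev g'.1)) := by
    rw [show dev (SylowOrth52.orthProd Q Q' (g, g')).1 = LinearMap.prodMap (dev g.1) (dev g'.1) from
      LinearMap.ext fun v => rfl, LinearMap.range_prodMap]
  let e : (LinearMap.range (dev g.1)).prod (LinearMap.range (dev g'.1)) ≃ₗ[F]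
      LinearMap.range (dev g.1) × LinearMap.range (dev g'.1) :=
    { toFun := fun p => (⟨p.1.1, p.2.1⟩, ⟨p.1.2, p.2.2⟩)
      map_add' := fun p p' => rfl
      map_smul' := fun c p => rfl
      invFun := fun p => ⟨(p.1.1, p.2.1), p.1.2, p.2.2⟩
      left_inv := fun p => rfl
      right_inv := fun p => rfl }
  rw [dickson, dickson, dickson, h, e.finrank_eq, finrank_prod, Nat.cast_add]

theorem UniN.mk {V : Type*} [AddCommGroup V] [Module F V] [FiniteDimensional F V]
    {Q : QuadraticForm F V} (hQ : Nondeg Q) {m : ℕ} {ε : ℤ} (hs : HasSign Q m ε) (g : orth Q) {n : ℕ} (w : V)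
    (hg : orderOf g = n) (hd : dickson Q g = 0) (hw : ∑ i ∈ Finset.range n, (g ^ i).1 w ≠ 0) :
    UniN F m ε n := by
  obtain ⟨Q', i, hQ', hs'⟩ := exists_std hQ hs
  refine ⟨Q', orthCongr i g, i.toLinearEquiv w, hQ', hs', by rw [MulEquiv.orderOf_eq, hg],
    by rw [dickson_orthCongr, hd], fun h => hw (i.toLinearEquiv.injective ?_)⟩
  rw [map_zero, ← h, map_sum]
  refine Finset.sum_congr rfl fun j _ => ?_
  rw [← map_pow, orthCongr_apply']

theorem Uni.mk {V : Type*} [AddCommGroup V] [Module F V] [FiniteDimensional F V]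
    {Q : QuadraticForm F V} (hQ : Nondeg Q) {m : ℕ} {ε : ℤ} (hs : HasSign Q m ε) (g : orth Q) {n : ℕ}
    (hg : orderOf g = n) : Uni F m ε n := by
  obtain ⟨Q', i, hQ', hs'⟩ := exists_std hQ hs
  exact ⟨Q', orthCongr i g, hQ', hs', by rw [MulEquiv.orderOf_eq, hg]⟩

theorem two_eq : (2 : F) = 0 := CharTwo.two_eq_zero

/-- `qMinus k 1 b` takes both signs. -/
theorem exists_param (δ : ℤ) (hδ : δ = 1 ∨ δ = -1) :
    ∃ b : F, ∀ k, Nondeg (qMinus k 1 b) ∧ HasSign (qMinus k 1 b) (k + 1) δ := by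
  rcases hδ with rfl | rfl
  · refine ⟨0, fun k => ?_⟩
    have e : (qPlus (F := F) 1).Equivalent (qBin 1 0) := by
      let f : (Fin 1 ⊕ Fin 1 → F) ≃ₗ[F] (Fin 2 → F) :=
        { toFun := fun v => ![v (.inl 0), v (.inr 0) - v (.inl 0)]
          map_add' := fun v w => by
            funext i; fin_cases i
            · rfl
            · simp; ring
          map_smul' := fun c v => by
            funext i; fin_cases i
            · rfl
            · simp; ring
          invFun := fun z => Sum.elim (fun _ => z 0) (fun _ => z 0 + z 1)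
          left_inv := fun v => by
            funext x
            rcases x with i | i <;> fin_cases i <;> simp
          right_inv := fun z => by
            funext i
            fin_cases i <;> simp }
      have hf : ∀ v, qBin 1 0 (f v) = qPlus 1 v := fun v => by
        simp [qBin_apply, qPlus_apply, f]
        ring
      exact ⟨{ f with map_app' := hf }⟩
    have hN : Nondeg (qBin (F := F) 1 0) := by
      obtain ⟨i⟩ := e
      exact (qPlus_nondeg 1).of_equiv i
    obtain ⟨i⟩ := (qMinus_equiv k (1 : F) 0).symm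
    exact ⟨(prod_nondeg (qPlus_nondeg k) hN).of_equiv i, by
      simpa using ((hasSign_plus k).prod ((hasSign_plus 1).congr e)).congr ⟨i⟩⟩
  · obtain ⟨a, b, hab⟩ := OrthField.exists_aniso F
    have ha : a ≠ 0 := fun ha => by
      obtain ⟨r, hr⟩ := exists_sqrt two_eq b
      exact one_ne_zero (hab r 1 (by rw [ha]; linear_combination hr + b * two_eq (F := F))).2
    have hab' : ∀ z₁ z₂ : F, z₁ ^ 2 + 1 * z₁ * z₂ + b / a ^ 2 * z₂ ^ 2 = 0 → z₁ = 0 ∧ z₂ = 0 := fun z₁ z₂ h => by
      obtain ⟨h1, h2⟩ := hab z₁ (z₂ / a) (by field_simp at h ⊢; linear_combination h)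
      exact ⟨h1, by simpa [ha] using h2⟩
    exact ⟨b / a ^ 2, fun k => ⟨qMinus_nondeg k hab', hasSign_minus k hab'⟩⟩

theorem exists_refl {V : Type*} [AddCommGroup V] [Module F V] [FiniteDimensional F V]
    {Q : QuadraticForm F V} (hQ : Nondeg Q) [Nontrivial V] :
    ∃ r : orth Q, orderOf r = 2 ∧ dickson Q r = 1 ∧ ∃ w, r.1 w ≠ w := by
  obtain ⟨v, hv⟩ := Elusive19.exists_nonsing hQ
  haveI : Fact (Nat.Prime 2) := ⟨Nat.prime_two⟩
  refine ⟨orefl Q v, orderOf_eq_prime (by rw [pow_two, TwoTranspositions.orefl_mul_self]) (TwoTranspositions.orefl_ne_one hQ hv),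
    dickson_orefl hQ hv, ?_⟩
  by_contra hc
  push Not at hc
  exact TwoTranspositions.orefl_ne_one hQ hv (Subtype.ext (LinearEquiv.ext hc))

theorem nontrivial_of_sign {V : Type*} [AddCommGroup V] [Module F V] [FiniteDimensional F V]
    {Q : QuadraticForm F V} {ε : ℤ} (hs : HasSign Q 1 ε) : Nontrivial V :=
  Module.nontrivial_of_finrank_eq_succ (n := 1) hs.finrank_eq

theorem uni_two (ε : ℤ) (hε : ε = 1 ∨ ε = -1) : Uni F 1 ε 2 := by
  obtain ⟨b, hb⟩ := exists_param (F := F) ε hε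
  haveI := nontrivial_of_sign (hb 0).2
  obtain ⟨r, hr, -⟩ := exists_refl (hb 0).1
  exact Uni.mk (hb 0).1 (hb 0).2 r hr

theorem uniN_one (ε : ℤ) (hε : ε = 1 ∨ ε = -1) : UniN F 1 ε 1 := by
  obtain ⟨b, hb⟩ := exists_param (F := F) ε hε
  haveI := nontrivial_of_sign (hb 0).2
  obtain ⟨w, hw⟩ := exists_ne (0 : (Fin 0 ⊕ Fin 0) ⊕ Fin 2 → F)
  exact UniN.mk (hb 0).1 (hb 0).2 1 w orderOf_one (dickson_one _) (by simpa using hw)

theorem uniN_two (ε : ℤ) (hε : ε = 1 ∨ ε = -1) : UniN F 2 ε 2 := by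
  obtain ⟨b, hb⟩ := exists_param (F := F) ε hε
  obtain ⟨b', hb'⟩ := exists_param (F := F) 1 (Or.inl rfl)
  haveI := nontrivial_of_sign (hb 0).2
  haveI := nontrivial_of_sign (hb' 0).2
  obtain ⟨r, hr, hrd, w, hw⟩ := exists_refl (hb 0).1
  obtain ⟨r', hr', hrd', -⟩ := exists_refl (hb' 0).1
  refine UniN.mk (prod_nondeg (hb 0).1 (hb' 0).1) (mul_one ε ▸ (hb 0).2.prod (hb' 0).2)
    (SylowOrth52.orthProd _ _ (r, r')) (w, 0) ?_ ?_ ?_
  · rw [orderOf_injective _ (SylowOrth52.orthProd_injective _ _), Prod.orderOf_mk, hr, hr', Nat.lcm_self]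
  · rw [dickson_orthProd, hrd, hrd']
    rfl
  · rw [Finset.sum_range_succ, Finset.sum_range_one, pow_zero, pow_one]
    intro h
    have h1 : w + r.1 w = 0 := congrArg Prod.fst h
    exact hw ((eq_neg_of_add_eq_zero_right h1).trans (by
      rw [← neg_one_smul F w, show (-1 : F) = 1 from CharTwo.neg_eq 1, one_smul]))

/-- The coordinate vector with entries `x₁, y₁, x, y`. -/
def vec4 (x₁ y₁ x y : F) : (Fin 1 ⊕ Fin 1) ⊕ Fin 2 → F :=
  Sum.elim (Sum.elim (fun _ => x₁) (fun _ => y₁)) ![x, y]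

theorem vec4_eq (v : (Fin 1 ⊕ Fin 1) ⊕ Fin 2 → F) :
    v = vec4 (v (.inl (.inl 0))) (v (.inl (.inr 0))) (v (.inr 0)) (v (.inr 1)) := by
  funext x
  rcases x with (i | i) | i <;> fin_cases i <;> simp [vec4]

theorem qMinus_vec4 (b x₁ y₁ x y : F) :
    qMinus 1 1 b (vec4 x₁ y₁ x y) = x₁ * y₁ + (x ^ 2 + x * y + b * y ^ 2) := by
  rw [qMinus_apply]
  simp [Cfsg.quadFormMinus, vec4]

/-- An element of order four with a single Jordan block. -/
theorem exists_block4 (b : F) : ∃ u : orth (qMinus 1 1 b), orderOf u = 4 ∧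
    dickson _ u = 1 ∧ ∃ w, ∑ i ∈ Finset.range 4, (u ^ i).1 w ≠ 0 := by
  let g : (F × F × F × F) → ((Fin 1 ⊕ Fin 1) ⊕ Fin 2 → F) := fun p =>
    vec4 (p.1 + p.2.2.1 + p.2.2.2 + b * p.2.1) p.2.1 (p.2.2.1 + p.2.2.2) (p.2.2.2 + p.2.1)
  let T : Module.End F ((Fin 1 ⊕ Fin 1) ⊕ Fin 2 → F) :=
    { toFun := fun v => g (v (.inl (.inl 0)), v (.inl (.inr 0)), v (.inr 0), v (.inr 1))
      map_add' := fun v w => by
        funext x
        rcases x with (i | i) | i <;> fin_cases i <;> simp [g, vec4] <;> ring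
      map_smul' := fun c v => by
        funext x
        rcases x with (i | i) | i <;> fin_cases i <;> simp [g, vec4] <;> ring }
  have hT : ∀ x₁ y₁ x y, T (vec4 x₁ y₁ x y) = vec4 (x₁ + x + y + b * y₁) y₁ (x + y) (y + y₁) := fun _ _ _ _ => rfl
  have hT2 : ∀ x₁ y₁ x y, T (T (vec4 x₁ y₁ x y)) = vec4 (x₁ + y + y₁) y₁ (x + y₁) y := fun x₁ y₁ x y => by
    rw [hT, hT]
    congr 1
    · linear_combination (x + y + b * y₁) * two_eq (F := F)
    · linear_combination y * two_eq (F := F)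
    · linear_combination y₁ * two_eq (F := F)
  have hT4 : ∀ v, T (T (T (T v))) = v := fun v => by
    rw [vec4_eq v, hT2, hT2]
    congr 1
    · linear_combination (v (.inr 1) + v (.inl (.inr 0))) * two_eq (F := F)
    · linear_combination (v (.inl (.inr 0))) * two_eq (F := F)
  let E : ((Fin 1 ⊕ Fin 1) ⊕ Fin 2 → F) ≃ₗ[F] ((Fin 1 ⊕ Fin 1) ⊕ Fin 2 → F) :=
    LinearEquiv.ofBijective T ⟨Function.LeftInverse.injective (g := fun v => T (T (T v))) hT4,
      fun v => ⟨T (T (T v)), hT4 v⟩⟩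
  let u : orth (qMinus 1 1 b) := ⟨E, fun v => by
    rw [show v = _ from vec4_eq v]
    show qMinus 1 1 b (T (vec4 _ _ _ _)) = _
    rw [hT, qMinus_vec4, qMinus_vec4]
    linear_combination (v (.inr 0) * v (.inl (.inr 0)) + v (.inl (.inr 0)) * v (.inr 1) + b * v (.inl (.inr 0)) ^ 2 +
      v (.inr 0) * v (.inr 1) + v (.inr 1) ^ 2 + b * v (.inr 1) * v (.inl (.inr 0))) * two_eq (F := F)⟩
  have hu : ∀ v, u.1 v = T v := fun _ => rfl
  have hp : ∀ v, (u ^ 2).1 v = T (T v) ∧ (u ^ 3).1 v = T (T (T v)) ∧ (u ^ 4).1 v = T (T (T (T v))) := fun v =>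
    ⟨by rw [pow_two]; rfl, by rw [pow_succ', pow_two]; rfl, by rw [pow_succ', pow_succ', pow_two]; rfl⟩
  refine ⟨u, ?_, ?_, vec4 0 1 0 0, ?_⟩
  · haveI : Fact (Nat.Prime 2) := ⟨Nat.prime_two⟩
    refine orderOf_eq_prime_pow (p := 2) (n := 1) ?_ ?_
    · intro h
      have h1 := congrArg (fun k : orth (qMinus 1 1 b) => k.1 (vec4 0 1 0 0) (.inr 0)) h
      rw [show (2 : ℕ) ^ 1 = 2 from rfl] at h1
      simp only [(hp _).1, hT2] at h1
      exact one_ne_zero (α := F) (by simp [vec4] at h1)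
    · exact Subtype.ext (LinearEquiv.ext fun v => ((hp v).2.2).trans (hT4 v))
  · have hker : fixSpace u.1 = Submodule.span F {vec4 1 0 0 0} := by
      refine le_antisymm (fun v hv => ?_) ((Submodule.span_singleton_le_iff_mem _ _).2 ?_)
      · rw [mem_fixSpace, hu, vec4_eq v, hT] at hv
        rw [Submodule.mem_span_singleton]
        refine ⟨v (.inl (.inl 0)), ?_⟩
        have h1 := congrFun hv (.inl (.inl 0))
        have h2 := congrFun hv (.inr 0)
        have h3 := congrFun hv (.inr 1)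
        simp [vec4] at h1 h2 h3
        have hy : v (.inl (.inr 0)) = 0 := h3
        have hy2 : v (.inr 1) = 0 := h2
        rw [hy, hy2] at h1
        simp at h1
        rw [vec4_eq v, hy, hy2, h1]
        funext x
        rcases x with (i | i) | i <;> fin_cases i <;> simp [vec4]
      · rw [mem_fixSpace, hu, hT]
        simp
    have h := finrank_range_dev u.1
    rw [hker, finrank_span_singleton (fun h0 => one_ne_zero (α := F) (by
      simpa [vec4] using congrFun h0 (.inl (.inl 0)))), Module.finrank_fintype_fun_eq_card] at h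
    have h3 : finrank F (LinearMap.range (dev u.1)) = 3 := by simpa using h
    rw [dickson, h3]
    rfl
  · simp only [Finset.sum_range_succ, Finset.sum_range_zero, zero_add, pow_zero, pow_one, (hp _).1, (hp _).2.1,
      hu, hT, hT2]
    intro h
    have h1 := congrFun h (.inl (.inl 0))
    refine one_ne_zero (α := F) ?_
    simp [vec4] at h1
    linear_combination h1 - (3 * b + 2) * two_eq (F := F)

/-- The coordinate vector with entries `x₁, x₂, y₁, y₂, x, y`. -/
def vec6 (x₁ x₂ y₁ y₂ x y : F) : (Fin 2 ⊕ Fin 2) ⊕ Fin 2 → F :=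
  Sum.elim (Sum.elim ![x₁, x₂] ![y₁, y₂]) ![x, y]

theorem vec6_eq (v : (Fin 2 ⊕ Fin 2) ⊕ Fin 2 → F) :
    v = vec6 (v (.inl (.inl 0))) (v (.inl (.inl 1))) (v (.inl (.inr 0))) (v (.inl (.inr 1))) (v (.inr 0))
      (v (.inr 1)) := by
  funext x
  rcases x with (i | i) | i <;> fin_cases i <;> simp [vec6]

theorem qMinus_vec6 (b x₁ x₂ y₁ y₂ x y : F) :
    qMinus 2 1 b (vec6 x₁ x₂ y₁ y₂ x y) = x₁ * y₁ + x₂ * y₂ + (x ^ 2 + x * y + b * y ^ 2) := by
  rw [qMinus_apply]
  simp [Cfsg.quadFormMinus, vec6, Fin.sum_univ_two]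

/-- The endomorphism with a single block of size six. -/
def endo6 (b : F) : Module.End F ((Fin 2 ⊕ Fin 2) ⊕ Fin 2 → F) where
  toFun v := vec6 (v (.inl (.inl 0)) + v (.inl (.inl 1)))
      (v (.inl (.inl 1)) + v (.inr 0) + v (.inr 1) + b * (v (.inl (.inr 1)) + v (.inl (.inr 0))))
      (v (.inl (.inr 0))) (v (.inl (.inr 1)) + v (.inl (.inr 0))) (v (.inr 0) + v (.inr 1))
      (v (.inr 1) + v (.inl (.inr 1)) + v (.inl (.inr 0)))
  map_add' v w := by
    funext x
    rcases x with (i | i) | i <;> fin_cases i <;> simp [vec6] <;> ring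
  map_smul' c v := by
    funext x
    rcases x with (i | i) | i <;> fin_cases i <;> simp [vec6] <;> ring

theorem endo6_apply (b x₁ x₂ y₁ y₂ x y : F) : endo6 b (vec6 x₁ x₂ y₁ y₂ x y) =
    vec6 (x₁ + x₂) (x₂ + x + y + b * (y₂ + y₁)) y₁ (y₂ + y₁) (x + y) (y + y₂ + y₁) := rfl

theorem endo6_two (b x₁ x₂ y₁ y₂ x y : F) : endo6 b (endo6 b (vec6 x₁ x₂ y₁ y₂ x y)) =
    vec6 (x₁ + b * y₁ + b * y₂ + x + y) (x₂ + (1 + b) * y₁ + y₂ + y) y₁ y₂ (x + y₁ + y₂) (y + y₁) := by
  rw [endo6_apply, endo6_apply]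
  congr 1
  · linear_combination x₂ * two_eq (F := F)
  · linear_combination (x + y + b * y₂ + b * y₁) * two_eq (F := F)
  · linear_combination y₁ * two_eq (F := F)
  · linear_combination y * two_eq (F := F)
  · linear_combination (y₂ + y₁) * two_eq (F := F)

theorem endo6_four (b x₁ x₂ y₁ y₂ x y : F) :
    endo6 b (endo6 b (endo6 b (endo6 b (vec6 x₁ x₂ y₁ y₂ x y)))) = vec6 (x₁ + y₂) (x₂ + y₁) y₁ y₂ x y := by
  rw [endo6_two, endo6_two]
  congr 1
  · linear_combination (b * y₁ + b * y₂ + x + y + y₁) * two_eq (F := F)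
  · linear_combination ((1 + b) * y₁ + y₂ + y) * two_eq (F := F)
  · linear_combination (y₁ + y₂) * two_eq (F := F)
  · linear_combination y₁ * two_eq (F := F)

theorem endo6_pow_four (b : F) (v : (Fin 2 ⊕ Fin 2) ⊕ Fin 2 → F) :
    (endo6 b ^ 4) v = endo6 b (endo6 b (endo6 b (endo6 b v))) := by
  simp [pow_succ, Module.End.mul_apply]

theorem endo6_pow_eight (b : F) : endo6 b ^ 8 = 1 := by
  refine LinearMap.ext fun v => ?_
  rw [show 8 = 4 + 4 from rfl, pow_add, Module.End.mul_apply, vec6_eq v, endo6_pow_four, endo6_pow_four,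
    endo6_four, endo6_four, Module.End.one_apply]
  congr 1
  · linear_combination (v (.inl (.inr 1))) * two_eq (F := F)
  · linear_combination (v (.inl (.inr 0))) * two_eq (F := F)

theorem endo6_preserves (b : F) (v : (Fin 2 ⊕ Fin 2) ⊕ Fin 2 → F) :
    qMinus 2 1 b (endo6 b v) = qMinus 2 1 b v := by
  rw [vec6_eq v, endo6_apply, qMinus_vec6, qMinus_vec6]
  generalize v (.inl (.inl 0)) = x₁, v (.inl (.inl 1)) = x₂, v (.inl (.inr 0)) = y₁,
    v (.inl (.inr 1)) = y₂, v (.inr 0) = x, v (.inr 1) = y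
  linear_combination (x₂ * y₁ + x * y + y ^ 2 + x * y₂ + x * y₁ + y * y₂ + y * y₁ +
    b * (y₂ ^ 2 + 2 * y₂ * y₁ + y₁ ^ 2 + y * y₂ + y * y₁)) * two_eq (F := F)

/-- An element of order eight. -/
theorem exists_block6 (b : F) : ∃ u : orth (qMinus 2 1 b), orderOf u = 8 := by
  have hl : ∀ v, (endo6 b ^ 7) (endo6 b v) = v := fun v => by
    rw [← Module.End.mul_apply, ← pow_succ, endo6_pow_eight, Module.End.one_apply]
  have hr : ∀ v, endo6 b ((endo6 b ^ 7) v) = v := fun v => by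
    rw [← Module.End.mul_apply, ← pow_succ', endo6_pow_eight, Module.End.one_apply]
  have hinj : Function.Injective (endo6 b) := fun a c h => by
    have h1 := congrArg (fun z => (endo6 b ^ 7) z) h
    simp only [hl] at h1
    exact h1
  have hsurj : Function.Surjective (endo6 b) := fun v => ⟨(endo6 b ^ 7) v, hr v⟩
  let E := LinearEquiv.ofBijective (endo6 b) ⟨hinj, hsurj⟩
  let u : orth (qMinus 2 1 b) := ⟨E, fun v => endo6_preserves b v⟩
  have hu : ∀ (n : ℕ) v, (u ^ n).1 v = (endo6 b ^ n) v := by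
    intro n
    induction n with
    | zero => intro v; rfl
    | succ n ih =>
      intro v
      rw [pow_succ', pow_succ', Module.End.mul_apply, ← ih]
      rfl
  refine ⟨u, ?_⟩
  haveI : Fact (Nat.Prime 2) := ⟨Nat.prime_two⟩
  refine orderOf_eq_prime_pow (p := 2) (n := 2) ?_ ?_
  · intro h
    have h1 : (u ^ 4).1 (vec6 0 0 0 1 0 0) = vec6 0 0 0 1 0 0 := by
      rw [show (2 : ℕ) ^ 2 = 4 from rfl] at h
      rw [h]
      rfl
    rw [hu, endo6_pow_four, endo6_four] at h1
    exact one_ne_zero (α := F) (by simpa [vec6] using congrFun h1 (.inl (.inl 0)))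
  · exact Subtype.ext (LinearEquiv.ext fun v => ((hu 8 v).trans (by rw [endo6_pow_eight]; rfl)))

theorem uni_four (ε : ℤ) (hε : ε = 1 ∨ ε = -1) : Uni F 2 ε 4 := by
  obtain ⟨b, hb⟩ := exists_param (F := F) ε hε
  obtain ⟨u, hu, -⟩ := exists_block4 b
  exact Uni.mk (hb 1).1 (hb 1).2 u hu

theorem uni_eight (ε : ℤ) (hε : ε = 1 ∨ ε = -1) : Uni F 3 ε 8 := by
  obtain ⟨b, hb⟩ := exists_param (F := F) ε hε
  obtain ⟨u, hu⟩ := exists_block6 b
  exact Uni.mk (hb 2).1 (hb 2).2 u hu

theorem uniN_four (ε : ℤ) (hε : ε = 1 ∨ ε = -1) : UniN F 3 ε 4 := by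
  obtain ⟨b, hb⟩ := exists_param (F := F) ε hε
  obtain ⟨b', hb'⟩ := exists_param (F := F) 1 (Or.inl rfl)
  haveI := nontrivial_of_sign (hb' 0).2
  obtain ⟨u, hu, hud, w, hw⟩ := exists_block4 b
  obtain ⟨r, hr, hrd, -⟩ := exists_refl (hb' 0).1
  refine UniN.mk (prod_nondeg (hb 1).1 (hb' 0).1) (mul_one ε ▸ (hb 1).2.prod (hb' 0).2)
    (SylowOrth52.orthProd _ _ (u, r)) (w, 0) ?_ ?_ ?_
  · rw [orderOf_injective _ (SylowOrth52.orthProd_injective _ _), Prod.orderOf_mk, hu, hr]
    rfl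
  · rw [dickson_orthProd, hud, hrd]
    rfl
  · intro h
    refine hw ?_
    have h1 := congrArg Prod.fst h
    rw [Prod.fst_sum] at h1
    refine Eq.trans (Finset.sum_congr rfl fun i _ => ?_) h1
    rw [← map_pow]
    rfl

end Cfsg.Agent.Lib.Elem70.SpecEight
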