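import Cfsg.Agent.Lib.Elem70.SpecEight.Upper

/-!
# Orders and norms of isometries of eight-dimensional forms in characteristic two

Owner: helper70.
-/

set_option autoImplicit false
set_option linter.unusedSimpArgs false
set_option linter.unusedSectionVars false
set_option linter.style.haveILetI false

namespace Cfsg.Agent.Lib.Elem70.SpecEight

open Polynomial

theorem roots_reverse_prod {K : Type*} [Field K] (s : Multiset K) (hs : ∀ a ∈ s, a ≠ 0) :
    ((s.map fun a => X - C a).prod).reverse.roots = s.map fun a => a⁻¹ := by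
  classical
  suffices h : ∃ c : K, c ≠ 0 ∧
      ((s.map fun a => X - C a).prod).reverse = C c * ((s.map fun a => a⁻¹).map fun b => X - C b).prod by
    obtain ⟨c, hc, h⟩ := h
    rw [h, roots_C_mul _ hc, roots_multiset_prod_X_sub_C]
  induction s using Multiset.induction with
  | empty => exact ⟨1, one_ne_zero, by simp [reverse]⟩
  | cons a s ih =>
    obtain ⟨c, hc, h⟩ := ih fun b hb => hs b (Multiset.mem_cons_of_mem hb)
    have ha := hs a (Multiset.mem_cons_self a s)
    refine ⟨-a * c, mul_ne_zero (neg_ne_zero.2 ha) hc, ?_⟩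
    rw [Multiset.map_cons, Multiset.prod_cons, reverse_mul_of_domain, h, Multiset.map_cons, Multiset.map_cons,
      Multiset.prod_cons]
    have h1 : (X - C a : K[X]).reverse = C (-a) * (X - C a⁻¹) := by
      rw [reverse, natDegree_X_sub_C, reflect_sub, reflect_C,
        show (X : K[X]) = C 1 * X ^ 1 by simp, reflect_C_mul_X_pow]
      simp only [revAt_le le_rfl, Nat.sub_self, pow_zero, mul_one, pow_one, map_one, one_mul]
      rw [mul_sub, ← C_mul, neg_mul, mul_inv_cancel₀ ha, map_neg, map_neg, map_one]
      ring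
    rw [h1, map_mul]
    ring

variable {F : Type*} [Field F] [Fintype F] [CharP F 2] {ι : Type*} [Fintype ι] [DecidableEq ι]

/-- The multiplicity data of the eigenvalues. -/
theorem exists_target (hι : Fintype.card ι = 8) (A P : Matrix ι ι F) (hP : IsUnit P.det)
    (hA : A.transpose * P * A = P) :
    ∃ t : Fin 12, A.charpoly ∣ (X ^ (od (Fintype.card F) t * 2 ^ ex t) - 1 : F[X]) ∧
      (need (A.charpoly.rootMultiplicity 1) = A.charpoly.rootMultiplicity 1 + 1 →
        A.charpoly * (X - 1) ∣ (X ^ (od (Fintype.card F) t * 2 ^ ex t) - 1 : F[X])) := by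
  classical
  haveI : Fact (Nat.Prime 2) := ⟨Nat.prime_two⟩
  obtain ⟨e, -, he⟩ := FiniteField.card F 2
  set q := Fintype.card F with hqdef
  let K := AlgebraicClosure F
  let i : F →+* K := algebraMap F K
  haveI : CharP K 2 := charP_of_injective_algebraMap (algebraMap F K).injective 2
  have hdet : A.det ≠ 0 := fun h => hP.ne_zero (by
    rw [← hA, Matrix.det_mul, h, mul_zero])
  set B : Matrix ι ι K := A.map i with hB
  set f := B.charpoly with hf
  have hfmap : A.charpoly.map i = f := (Matrix.charpoly_map A i).symm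
  have hfm : f.Monic := Matrix.charpoly_monic B
  have hsplit : f.Splits := IsAlgClosed.splits f
  set R := f.roots with hR
  have hprod : f = (R.map fun a => X - C a).prod := hsplit.eq_prod_roots_of_monic hfm
  have hcard : R.card ≤ 8 := by
    refine le_trans (card_roots' f) ?_
    rw [hf, Matrix.charpoly_natDegree_eq_dim, hι]
  have hBdet : B.det ≠ 0 := by
    rw [hB, ← RingHom.mapMatrix_apply, ← RingHom.map_det]
    exact (map_ne_zero i).2 hdet
  have h0 : (0 : K) ∉ R := fun h => hBdet (by
    rw [Matrix.det_eq_sign_charpoly_coeff, coeff_zero_eq_eval_zero, (mem_roots'.1 h).2, mul_zero])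
  have hfrob : ∀ x, R.count (x ^ q) = R.count x := fun x => by
    have hinj : Function.Injective (iterateFrobenius K 2 e) := (iterateFrobenius K 2 e).injective
    have hcomm : f.map (iterateFrobenius K 2 e) = f := by
      rw [← hfmap, Polynomial.map_map]
      congr 1
      refine RingHom.ext fun a => ?_
      show iterateFrobenius K 2 e (i a) = i a
      rw [iterateFrobenius_def, ← map_pow, ← he]
      exact congrArg i (FiniteField.pow_card a)
    rw [hR, count_roots, count_roots]
    have := eq_rootMultiplicity_map (p := f) hinj x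
    rw [hcomm, iterateFrobenius_def, ← he] at this
    exact this.symm
  have hinv : ∀ x, R.count x⁻¹ = R.count x := fun x => by
    have hBP : B.transpose * P.map i * B = P.map i := by
      rw [hB, ← Matrix.transpose_map, ← Matrix.map_mul, ← Matrix.map_mul, hA]
    have hPu : IsUnit (P.map i) := by
      rw [Matrix.isUnit_iff_isUnit_det, ← RingHom.mapMatrix_apply, ← RingHom.map_det]
      exact hP.map i
    let G : GL ι K := hPu.unit
    have hinvB : B⁻¹ = ((G⁻¹ : GL ι K) : Matrix ι ι K) * B.transpose * (G : Matrix ι ι K) := by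
      refine Matrix.inv_eq_left_inv ?_
      rw [Matrix.mul_assoc, Matrix.mul_assoc, ← Matrix.mul_assoc B.transpose,
        show ((G : GL ι K) : Matrix ι ι K) = P.map i from hPu.unit_spec, hBP, ← hPu.unit_spec]
      exact Units.inv_mul _
    have h1 : B⁻¹.charpoly = f := by
      rw [hinvB, Matrix.coe_units_inv, Matrix.charpoly_units_conj', Matrix.charpoly_transpose]
    rw [Matrix.charpoly_inv B ((Matrix.isUnit_iff_isUnit_det B).2 (isUnit_iff_ne_zero.2 hBdet)),
      ← Matrix.reverse_charpoly, ← hf, hι] at h1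
    have h2 : R = R.map fun a => a⁻¹ := by
      have := congrArg Polynomial.roots h1
      rw [show ((-1 : K[X]) ^ 8) = 1 by norm_num, one_mul, Ring.inverse_eq_inv',
        roots_C_mul _ (inv_ne_zero hBdet)] at this
      rw [hprod, roots_reverse_prod R (fun a ha h => h0 (h ▸ ha)), ← hprod] at this
      exact this.symm
    conv_lhs => rw [h2]
    exact Multiset.count_map_eq_count' _ _ inv_injective x
  obtain ⟨t, htord, htM, htone⟩ := roots_covered (q := q) he hcard h0 hfrob hinv
  refine ⟨t, ?_⟩
  set N := od q t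
  have hG : (X ^ (N * 2 ^ ex t) - 1 : F[X]).map i = (X ^ N - 1) ^ 2 ^ ex t := by
    rw [Polynomial.map_sub, Polynomial.map_pow, map_X, Polynomial.map_one, sub_pow_char_pow, one_pow, ← pow_mul]
  have hNodd : Odd N := od_odd (he.symm ▸ Nat.even_pow.2 ⟨even_two, e.ne_zero⟩ : Even q) Fintype.one_lt_card t
  have hN0 : N ≠ 0 := fun h => by simp [h] at hNodd
  have hne : (X ^ N - 1 : K[X]) ≠ 0 := X_pow_sub_C_ne_zero (Nat.pos_of_ne_zero hN0) 1
  have hcnt : ∀ x, x ^ N = 1 → 2 ^ ex t ≤ ((X ^ N - 1 : K[X]) ^ 2 ^ ex t).roots.count x := fun x hx => by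
    rw [roots_pow, Multiset.count_nsmul]
    exact Nat.le_mul_of_pos_right _ (Multiset.count_pos.2 ((mem_roots hne).2 (by simp [hx])))
  have hm : A.charpoly.rootMultiplicity 1 = R.count 1 := by
    rw [hR, count_roots, ← hfmap, eq_rootMultiplicity_map (f := i) i.injective 1, map_one]
  refine ⟨?_, fun hneed => ?_⟩
  · rw [← map_dvd_map i i.injective (Matrix.charpoly_monic A), hfmap, hG]
    refine hsplit.dvd_of_roots_le_roots hfm.ne_zero (Multiset.le_iff_count.2 fun x => ?_)
    by_cases hx : x ∈ R
    · exact (htM x hx).trans (hcnt x (htord x hx))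
    · rw [← hR, Multiset.count_eq_zero.2 hx]; exact Nat.zero_le _
  · have hmul : (A.charpoly * (X - 1)).Monic := (Matrix.charpoly_monic A).mul (monic_X_sub_C 1)
    rw [← map_dvd_map i i.injective hmul, Polynomial.map_mul, hfmap, hG, Polynomial.map_sub, map_X,
      Polynomial.map_one, ← C_1]
    refine (hsplit.mul (Splits.X_sub_C 1)).dvd_of_roots_le_roots
      (mul_ne_zero hfm.ne_zero (X_sub_C_ne_zero 1)) (Multiset.le_iff_count.2 fun x => ?_)
    rw [roots_mul (mul_ne_zero hfm.ne_zero (X_sub_C_ne_zero 1)), roots_X_sub_C, Multiset.count_add, ← hR]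
    rw [map_one C]
    by_cases hx1 : x = 1
    · subst hx1
      rw [Multiset.count_singleton_self]
      refine le_trans ?_ (hcnt 1 (one_pow N))
      rw [← hm, ← hneed, hm]
      exact htone
    · rw [Multiset.count_singleton, if_neg hx1, add_zero]
      by_cases hx : x ∈ R
      · exact (htM x hx).trans (hcnt x (htord x hx))
      · rw [Multiset.count_eq_zero.2 hx]; exact Nat.zero_le _

/-- A unipotent part consisting of one block has a one-dimensional fixed space. -/
theorem annihilate_of_even (hι : Fintype.card ι = 8) (A : Matrix ι ι F) (hev : Even (A - 1).rank) {g : F[X]}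
    (hg : A.charpoly = (X - 1) * g) : aeval A g = 0 := by
  by_contra hne
  set φ : Module.End F (ι → F) := Matrix.toLin' A with hφ
  set μ := A.charpoly.rootMultiplicity 1 with hμ
  have hχ : φ.charpoly = A.charpoly := Matrix.charpoly_toLin' A
  obtain ⟨h, hh⟩ : (X - C (1 : F)) ^ μ ∣ A.charpoly := pow_rootMultiplicity_dvd _ _
  have hμ1 : 1 ≤ μ := by
    rw [hμ, Nat.one_le_iff_ne_zero]
    intro h0
    have := (rootMultiplicity_pos (Matrix.charpoly_monic A).ne_zero (x := (1 : F))).2
      (by simp [IsRoot, hg])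
    omega
  obtain ⟨μ', hμ'⟩ : ∃ μ', μ = μ' + 1 := ⟨μ - 1, by omega⟩
  have hgh : g = (X - 1) ^ μ' * h := by
    rw [hμ', pow_succ', mul_assoc, C_1, hg] at hh
    exact mul_left_cancel₀ (by rw [← C_1]; exact X_sub_C_ne_zero 1) hh
  set M : Module.End F (ι → F) := φ - 1 with hM
  have hφg : aeval φ g ≠ 0 := fun h0 => hne (by
    have := Polynomial.aeval_algHom_apply (Matrix.toLinAlgEquiv' (R := F) (n := ι)).toAlgHom A g
    rw [show (Matrix.toLinAlgEquiv' (R := F) (n := ι)).toAlgHom A = φ from rfl, h0] at this
    exact (Matrix.toLinAlgEquiv' (R := F) (n := ι)).injective (by rw [map_zero]; exact this.symm))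
  obtain ⟨x, hx⟩ : ∃ x, aeval φ g x ≠ 0 := by
    by_contra hc
    push Not at hc
    exact hφg (LinearMap.ext hc)
  set w := aeval φ h x with hw
  have hMX : aeval φ (X - 1 : F[X]) = M := by simp [hM]
  have hwμ' : (M ^ μ') w ≠ 0 := by
    rwa [hgh, map_mul, map_pow, hMX, Module.End.mul_apply] at hx
  have hwμ : (M ^ μ) w = 0 := by
    have := LinearMap.congr_fun φ.aeval_self_charpoly x
    rw [hχ, hh, C_1, map_mul, map_pow, hMX, Module.End.mul_apply] at this
    exact this
  have hge : ∀ j, μ ≤ j → (M ^ j) w = 0 := fun j hj => by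
    obtain ⟨d, rfl⟩ := Nat.exists_eq_add_of_le hj
    rw [add_comm, pow_add, Module.End.mul_apply, hwμ, map_zero]
  set v : Fin μ → (ι → F) := fun j => (M ^ (j : ℕ)) w with hv
  have hli : LinearIndependent F v := by
    rw [Fintype.linearIndependent_iff]
    intro c hc
    by_contra hne'
    push Not at hne'
    obtain ⟨j₀, hj₀⟩ := hne'
    classical
    have hsne : (Finset.univ.filter fun j => c j ≠ 0).Nonempty := ⟨j₀, by simp [hj₀]⟩
    set j := (Finset.univ.filter fun j => c j ≠ 0).min' hsne with hj
    have hjc : c j ≠ 0 := (Finset.mem_filter.1 (Finset.min'_mem _ hsne)).2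
    have h1 := congrArg (M ^ (μ' - j.val)) hc
    simp only [map_sum, map_smul, map_zero, hv, ← Module.End.mul_apply, ← pow_add] at h1
    rw [Finset.sum_eq_single j] at h1
    · rw [show μ' - (j : ℕ) + j = μ' by omega] at h1
      exact hjc ((smul_eq_zero.1 h1).resolve_right hwμ')
    · intro b _ hb
      by_cases hcb : c b = 0
      · rw [hcb, zero_smul]
      · have : j ≤ b := Finset.min'_le _ b (by simp [hcb])
        have hlt : j < b := lt_of_le_of_ne this (Ne.symm hb)
        rw [hge _ (by omega), smul_zero]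
    · exact fun h => absurd (Finset.mem_univ j) h
  set G := φ.maxGenEigenspace 1
  have hMid : φ - (1 : F) • (1 : Module.End F (ι → F)) = M := by rw [one_smul, hM]
  have hvG : Submodule.span F (Set.range v) = G := by
    refine Submodule.eq_of_le_of_finrank_le (Submodule.span_le.2 ?_) ?_
    · rintro _ ⟨j, rfl⟩
      rw [SetLike.mem_coe, Module.End.mem_maxGenEigenspace]
      refine ⟨μ, ?_⟩
      rw [hMid, hv, ← Module.End.mul_apply, ← pow_add, hge _ (Nat.le_add_right _ _)]
    · rw [φ.finrank_maxGenEigenspace_eq, hχ, finrank_span_eq_card hli, Fintype.card_fin]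
  have hker : LinearMap.ker M = Submodule.span F {(M ^ μ') w} := by
    refine le_antisymm (fun z hz => ?_) ((Submodule.span_singleton_le_iff_mem _ _).2 ?_)
    · rw [LinearMap.mem_ker] at hz
      have hzG : z ∈ G := by
        rw [Module.End.mem_maxGenEigenspace]
        exact ⟨1, by rw [hMid, pow_one, hz]⟩
      rw [← hvG] at hzG
      obtain ⟨c, rfl⟩ := (Submodule.mem_span_range_iff_exists_fun F).1 hzG
      have hc0 : ∀ j : Fin μ, (j : ℕ) < μ' → c j = 0 := by
        intro j hj
        rw [Fintype.linearIndependent_iff] at hli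
        have h1 := hli (fun i => if h0 : (i : ℕ) = 0 then 0 else c ⟨(i : ℕ) - 1, by omega⟩) ?_ ⟨j + 1, by omega⟩
        · simpa using h1
        rw [map_sum] at hz
        simp only [hv, map_smul, ← Module.End.mul_apply, ← pow_succ'] at hz
        rw [← Equiv.sum_comp (finCongr hμ'.symm), Fin.sum_univ_castSucc] at hz
        rw [← Equiv.sum_comp (finCongr hμ'.symm), Fin.sum_univ_succ]
        simp only [finCongr_apply, Fin.val_cast, Fin.val_last] at hz ⊢
        rw [hge _ (by omega : μ ≤ μ' + 1), smul_zero, add_zero] at hz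
        simp only [Fin.val_castSucc] at hz
        simp only [Fin.val_zero, dite_true, zero_smul, zero_add, Fin.val_succ, Nat.add_one_ne_zero, dite_false,
          Nat.add_sub_cancel, hv, Fin.val_cast]
        erw [dif_pos rfl]
        rw [zero_smul, zero_add]
        exact hz
      rw [Finset.sum_eq_single ⟨μ', by omega⟩]
      · exact Submodule.smul_mem _ _ (Submodule.mem_span_singleton_self _)
      · intro b _ hb
        have : (b : ℕ) ≠ μ' := fun h => hb (Fin.ext h)
        rw [hc0 b (by omega), zero_smul]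
      · exact fun h => absurd (Finset.mem_univ _) h
    · rw [LinearMap.mem_ker, ← Module.End.mul_apply, ← pow_succ', hge _ (by omega)]
  have h1 := LinearMap.finrank_range_add_finrank_ker M
  rw [hker, finrank_span_singleton hwμ', Module.finrank_fintype_fun_eq_card, hι] at h1
  have h2 : (A - 1).rank = 7 := by
    rw [Matrix.rank, show (A - 1).mulVecLin = M from LinearMap.ext fun z => by
      show (A - 1).mulVec z = A.mulVec z - z
      rw [Matrix.sub_mulVec, Matrix.one_mulVec]]
    omega
  rw [h2] at hev
  exact absurd hev (by decide)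

/-- The orders, and the vanishing of norms when the Dickson invariant is zero. -/
theorem exists_bound (hι : Fintype.card ι = 8) (A P : Matrix ι ι F) (hP : IsUnit P.det)
    (hA : A.transpose * P * A = P) :
    ∃ t : Fin 12, A ^ (od (Fintype.card F) t * 2 ^ ex t) = 1 ∧
      (Even (A - 1).rank → ∑ j ∈ Finset.range (od (Fintype.card F) t * 2 ^ ex t), A ^ j = 0) := by
  obtain ⟨t, h1, h2⟩ := exists_target hι A P hP hA
  refine ⟨t, ?_, fun hev => ?_⟩
  · obtain ⟨c, hc⟩ := h1
    have := congrArg (aeval A) hc
    rw [map_sub, map_pow, aeval_X, map_one, map_mul, Matrix.aeval_self_charpoly, zero_mul] at this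
    exact sub_eq_zero.1 this
  set n := od (Fintype.card F) t * 2 ^ ex t
  have hgeom : (X - 1 : F[X]) * ∑ j ∈ Finset.range n, X ^ j = X ^ n - 1 := mul_geom_sum X n
  have hX1 : (X - 1 : F[X]) ≠ 0 := by rw [← C_1]; exact X_sub_C_ne_zero 1
  suffices h : ∃ g : F[X], aeval A g = 0 ∧ g ∣ ∑ j ∈ Finset.range n, (X : F[X]) ^ j by
    obtain ⟨g, hg, c, hc⟩ := h
    have := congrArg (aeval A) hc
    rw [map_mul, hg, zero_mul, map_sum] at this
    simpa only [map_pow, aeval_X] using this
  by_cases hneed : need (A.charpoly.rootMultiplicity 1) = A.charpoly.rootMultiplicity 1 + 1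
  · refine ⟨A.charpoly, Matrix.aeval_self_charpoly A, (mul_dvd_mul_iff_left hX1).1 ?_⟩
    rw [hgeom, mul_comm]
    exact h2 hneed
  · have hμ : 1 ≤ A.charpoly.rootMultiplicity 1 := by
      unfold need at hneed
      split_ifs at hneed with h <;> omega
    obtain ⟨g, hg⟩ : (X - 1 : F[X]) ∣ A.charpoly := by
      rw [← C_1, dvd_iff_isRoot]
      exact ((rootMultiplicity_pos (Matrix.charpoly_monic A).ne_zero).1 hμ)
    refine ⟨g, annihilate_of_even hι A hev hg, (mul_dvd_mul_iff_left hX1).1 ?_⟩
    rw [hgeom, ← hg]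
    exact h1

end Cfsg.Agent.Lib.Elem70.SpecEight
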