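import Mathlib

/-!
# The table of maximal element orders of `Sp₈(2^e)`

The atom `a : Fin 8` stands for `q ^ d - 1` (`a` odd) or `q ^ d + 1` (`a` even), `d = a / 2 + 1`.

Owner: helper70.
-/

set_option autoImplicit false
set_option linter.unusedSimpArgs false

namespace Cfsg.Agent.Lib.Elem70.SpecEight

/-- The degree of an atom. -/
def deg (a : Fin 8) : ℕ := a.val / 2 + 1

/-- The value of an atom. -/
def val (q : ℕ) (a : Fin 8) : ℕ := if a.val % 2 = 1 then q ^ deg a - 1 else q ^ deg a + 1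

/-- The odd parts of the maximal orders. -/
def od (q : ℕ) : Fin 12 → ℕ :=
  ![q ^ 4 + 1, (q ^ 2 - 1) * (q ^ 2 + 1), (q ^ 3 - 1) * (q + 1), (q ^ 3 + 1) * (q - 1), q ^ 3 - 1, q ^ 3 + 1,
    (q ^ 2 + 1) * (q + 1), (q ^ 2 + 1) * (q - 1), q ^ 2 + 1, q ^ 2 - 1, q + 1, q - 1]

/-- The exponents of the two-parts. -/
def ex : Fin 12 → ℕ := ![0, 0, 0, 0, 1, 1, 1, 1, 2, 2, 3, 3]

/-- Which atoms divide which odd parts. -/
def cov : Fin 12 → List (Fin 8) :=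
  ![[6], [0, 1, 2, 3, 7], [0, 1, 3, 5], [0, 1, 3, 4], [1, 5], [0, 4], [0, 2], [1, 2], [2], [0, 1, 3], [0], [1]]

theorem val_dvd_od {q : ℕ} (hq : 1 ≤ q) :
    ∀ (t : Fin 12) (a : Fin 8), a ∈ cov t → val q a ∣ od q t := by
  obtain ⟨r, rfl⟩ : ∃ r, q = r + 1 := ⟨q - 1, by omega⟩
  have e1 : (r + 1) ^ 1 - 1 = r := by simp
  have e2 : (r + 1) ^ 2 - 1 = r * (r + 2) := by
    rw [show (r + 1) ^ 2 = r * (r + 2) + 1 by ring]; simp
  have e3 : (r + 1) ^ 3 - 1 = r * (r ^ 2 + 3 * r + 3) := by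
    rw [show (r + 1) ^ 3 = r * (r ^ 2 + 3 * r + 3) + 1 by ring]; simp
  have e4 : (r + 1) ^ 4 - 1 = r * (r + 2) * (r ^ 2 + 2 * r + 2) := by
    rw [show (r + 1) ^ 4 = r * (r + 2) * (r ^ 2 + 2 * r + 2) + 1 by ring]; simp
  have f3 : (r + 1) ^ 3 + 1 = (r + 2) * (r ^ 2 + r + 1) := by ring
  have f2 : (r + 1) ^ 2 + 1 = r ^ 2 + 2 * r + 2 := by ring
  have f1 : (r + 1) ^ 1 + 1 = r + 2 := by ring
  have hv : ∀ a, val (r + 1) a = (![r + 2, r, r ^ 2 + 2 * r + 2, r * (r + 2),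
      (r + 2) * (r ^ 2 + r + 1), r * (r ^ 2 + 3 * r + 3), (r + 1) ^ 4 + 1,
      r * (r + 2) * (r ^ 2 + 2 * r + 2)] : Fin 8 → ℕ) a := fun a => by
    fin_cases a <;> simp [val, deg, e1, e2, e3, e4, f2, f3]
  have ho : ∀ t, od (r + 1) t = (![(r + 1) ^ 4 + 1, r * (r + 2) * (r ^ 2 + 2 * r + 2),
      r * (r ^ 2 + 3 * r + 3) * (r + 2), (r + 2) * (r ^ 2 + r + 1) * r, r * (r ^ 2 + 3 * r + 3),
      (r + 2) * (r ^ 2 + r + 1), (r ^ 2 + 2 * r + 2) * (r + 2), (r ^ 2 + 2 * r + 2) * r,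
      r ^ 2 + 2 * r + 2, r * (r + 2), r + 2, r] : Fin 12 → ℕ) t := fun t => by
    fin_cases t <;> simp [od, e1, e2, e3, e4, f2, f3]
  intro t a h
  rw [hv, ho]
  fin_cases t <;> fin_cases a <;>
    first
    | exact absurd h (by decide)
    | (simp only [Fin.zero_eta, Fin.mk_one, Fin.reduceFinMk, Fin.isValue, Matrix.cons_val, Matrix.cons_val_zero,
         Matrix.cons_val_one]
       first
       | exact dvd_rfl
       | exact dvd_mul_right _ _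
       | exact dvd_mul_left _ _
       | exact dvd_mul_of_dvd_left (dvd_mul_right _ _) _
       | exact dvd_mul_of_dvd_left (dvd_mul_left _ _) _
       | (refine Dvd.intro (r ^ 2 + 3 * r + 3) ?_; ring1)
       | (refine Dvd.intro (r ^ 2 + r + 1) ?_; ring1))

theorem od_odd {q : ℕ} (hq : Even q) (hq2 : 2 ≤ q) : ∀ t, Odd (od q t) := by
  have hp : ∀ d, d ≠ 0 → Odd (q ^ d + 1) ∧ Odd (q ^ d - 1) := fun d hd => by
    have he : Even (q ^ d) := hq.pow_of_ne_zero hd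
    refine ⟨he.add_one, Nat.Even.sub_odd (Nat.one_le_pow _ _ (by omega)) he odd_one⟩
  have h1 : Odd (q + 1) ∧ Odd (q - 1) := by simpa using hp 1 one_ne_zero
  intro t
  fin_cases t
  exacts [(hp 4 (by norm_num)).1, (hp 2 two_ne_zero).2.mul (hp 2 two_ne_zero).1,
    (hp 3 (by norm_num)).2.mul h1.1, (hp 3 (by norm_num)).1.mul h1.2, (hp 3 (by norm_num)).2,
    (hp 3 (by norm_num)).1, (hp 2 two_ne_zero).1.mul h1.1, (hp 2 two_ne_zero).1.mul h1.2,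
    (hp 2 two_ne_zero).1, (hp 2 two_ne_zero).2, h1.1, h1.2]

/-- The exponent needed at the eigenvalue one. -/
def need (m : ℕ) : ℕ := if m = 2 ∨ m = 4 ∨ m = 8 then m else m + 1

/-- Every configuration of eigenvalues is covered by the table. -/
theorem covered : ∀ (S : Finset (Fin 8)) (m : Fin 9) (M : Fin 5), 1 ≤ M.val →
    m.val + 2 * ∑ a ∈ S, deg a ≤ 8 →
    (M.val = 1 ∨ ∃ a ∈ S, m.val + 2 * (∑ b ∈ S, deg b + (M.val - 1) * deg a) ≤ 8) →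
    ∃ t : Fin 12, (∀ a ∈ S, a ∈ cov t) ∧ M.val ≤ 2 ^ ex t ∧ need m.val ≤ 2 ^ ex t := by
  decide +kernel

end Cfsg.Agent.Lib.Elem70.SpecEight
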