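import Cfsg.Agent.Lib.Elem70.SpecEight.Blocks
import Cfsg.Agent.Lib.Elem70.SpecEight.Table

/-!
# Elements of the maximal orders in `O₈⁻(2^e)`

Owner: helper70.
-/

set_option autoImplicit false
set_option linter.unusedSectionVars false
set_option linter.unusedSimpArgs false
set_option linter.style.haveILetI false

namespace Cfsg.Agent.Lib.Elem70.SpecEight

open Module QuadraticMap Cfsg.Agent.Lib.Forms Cfsg.Agent.Lib.Elem70.ClassCount

universe u

variable {F : Type u} [Field F] [Fintype F] [CharP F 2] {V : Type*} [AddCommGroup V] [Module F V]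
  [FiniteDimensional F V] {Q : QuadraticForm F V}

theorem dickson_of_odd (hQ : Nondeg Q) (h : finrank F V ≠ 4) (g : orth Q) (hg : Odd (orderOf g)) :
    dickson Q g = 0 := by
  obtain ⟨k, hk⟩ := hg
  have h1 : dicksonHom hQ (Or.inr h) g ^ orderOf g = 1 := by rw [← map_pow, pow_orderOf_eq_one, map_one]
  have h2 : ∀ x : Multiplicative (ZMod 2), x * x = 1 := by decide
  rw [hk, pow_succ, pow_mul, pow_two, h2, one_pow, one_mul] at h1
  exact ofAdd_eq_one.1 h1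

theorem tor_elem (hQ : Nondeg Q) (hs : HasSign Q 4 (-1)) {n : ℕ} (h : Tor F 4 (-1) n) :
    ∃ g : orth Q, orderOf g = n ∧ dickson Q g = 0 := by
  obtain ⟨Q', g, hQ', hs', hg, hn⟩ := h
  obtain ⟨e⟩ := equivalent_of_hasSign hQ' hQ hs' hs
  refine ⟨orthCongr e g, by rw [MulEquiv.orderOf_eq, hg], ?_⟩
  exact dickson_of_odd hQ (by rw [hs.finrank_eq]; norm_num) _ (by rw [MulEquiv.orderOf_eq, hg]; exact hn)

theorem tor_uni (hQ : Nondeg Q) (hs : HasSign Q 4 (-1)) {m m' n n' : ℕ} {ε δ : ℤ} (h : Tor F m ε n)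
    (h' : Uni F m' δ n') (hm : m + m' = 4) (hε : ε * δ = -1) (hco : n.Coprime n') :
    ∃ g : orth Q, orderOf g = n * n' := by
  obtain ⟨Q₁, g₁, hQ₁, hs₁, hg₁, -⟩ := h
  obtain ⟨Q₂, g₂, hQ₂, hs₂, hg₂⟩ := h'
  obtain ⟨e⟩ := equivalent_of_hasSign (prod_nondeg hQ₁ hQ₂) hQ (hε ▸ hm ▸ hs₁.prod hs₂) hs
  refine ⟨orthCongr e (SylowOrth52.orthProd Q₁ Q₂ (g₁, g₂)), ?_⟩
  rw [MulEquiv.orderOf_eq, orderOf_injective _ (SylowOrth52.orthProd_injective Q₁ Q₂), Prod.orderOf_mk, hg₁, hg₂,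
    hco.lcm_eq_mul]

theorem sum_range_mul {A : Type*} [AddCommMonoid A] (f : ℕ → A) (k : ℕ) (hf : ∀ i, f (i + k) = f i) (n : ℕ) :
    ∑ i ∈ Finset.range (n * k), f i = n • ∑ i ∈ Finset.range k, f i := by
  induction n with
  | zero => simp
  | succ n ih =>
    have hper : ∀ i, f (n * k + i) = f i := by
      intro i
      clear ih
      induction n with
      | zero => simp
      | succ n ihn => rw [Nat.succ_mul, show n * k + k + i = (n * k + i) + k by ring, hf, ihn]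
    rw [Nat.succ_mul, Finset.sum_range_add, ih, succ_nsmul]
    simp only [hper]

theorem tor_uniN (hQ : Nondeg Q) (hs : HasSign Q 4 (-1)) {m m' n n' : ℕ} {ε δ : ℤ} (h : Tor F m ε n)
    (h' : UniN F m' δ n') (hm : m + m' = 4) (hε : ε * δ = -1) (hco : n.Coprime n') :
    ∃ (g : orth Q) (w : V), orderOf g = n * n' ∧ dickson Q g = 0 ∧
      ∑ i ∈ Finset.range (n * n'), (g ^ i).1 w ≠ 0 := by
  obtain ⟨Q₁, g₁, hQ₁, hs₁, hg₁, hn⟩ := h
  obtain ⟨Q₂, g₂, w, hQ₂, hs₂, hg₂, hd, hw⟩ := h'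
  have hN := prod_nondeg hQ₁ hQ₂
  have hsP : HasSign (Q₁.prod Q₂) 4 (-1) := hε ▸ hm ▸ hs₁.prod hs₂
  obtain ⟨e⟩ := equivalent_of_hasSign hN hQ hsP hs
  set G := SylowOrth52.orthProd Q₁ Q₂ (g₁, g₂) with hG
  refine ⟨orthCongr e G, e.toLinearEquiv (0, w), ?_, ?_, ?_⟩
  · rw [MulEquiv.orderOf_eq, orderOf_injective _ (SylowOrth52.orthProd_injective Q₁ Q₂), Prod.orderOf_mk, hg₁, hg₂,
      hco.lcm_eq_mul]
  · rw [dickson_orthCongr, hG, show ((g₁, g₂) : orth Q₁ × orth Q₂) = (g₁, 1) * (1, g₂) by simp, map_mul]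
    have h4 : finrank F ((Fin (2 * m) → F) × (Fin (2 * m') → F)) ≠ 4 := by rw [hsP.finrank_eq]; norm_num
    have h5 := (dicksonHom hN (Or.inr h4)).map_mul (SylowOrth52.orthProd Q₁ Q₂ (g₁, 1))
      (SylowOrth52.orthProd Q₁ Q₂ (1, g₂))
    have h6 : dickson (Q₁.prod Q₂) (SylowOrth52.orthProd Q₁ Q₂ (g₁, 1) * SylowOrth52.orthProd Q₁ Q₂ (1, g₂)) =
        dickson (Q₁.prod Q₂) (SylowOrth52.orthProd Q₁ Q₂ (g₁, 1)) +
          dickson (Q₁.prod Q₂) (SylowOrth52.orthProd Q₁ Q₂ (1, g₂)) := h5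
    rw [h6, dickson_of_odd hN h4 _ (by
      rw [orderOf_injective _ (SylowOrth52.orthProd_injective Q₁ Q₂), Prod.orderOf_mk, hg₁, orderOf_one,
        Nat.lcm_one_right]
      exact hn), dickson_orthProd, dickson_one, hd, zero_add, zero_add]
  · intro h0
    refine hw ?_
    have h1 : ∑ i ∈ Finset.range (n * n'), (g₂ ^ i).1 w = 0 := by
      have h2 := congrArg (fun z => (e.toLinearEquiv.symm z).2) h0
      simp only [map_zero, Prod.snd_zero, map_sum, Prod.snd_sum] at h2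
      refine Eq.trans (Finset.sum_congr rfl fun i _ => ?_) h2
      rw [← map_pow, orthCongr_apply', LinearEquiv.symm_apply_apply, hG, ← map_pow]
      rfl
    rw [sum_range_mul (fun i => (g₂ ^ i).1 w) n' (fun i => by
      show (g₂ ^ (i + n')).1 w = (g₂ ^ i).1 w
      rw [pow_add, ← hg₂, pow_orderOf_eq_one, mul_one]) n] at h1
    obtain ⟨k, hk⟩ := hn
    rwa [← Nat.cast_smul_eq_nsmul F, hk, Nat.cast_add, Nat.cast_mul, show ((2 : ℕ) : F) = 0 by
      exact_mod_cast CharP.cast_eq_zero F 2, zero_mul, zero_add, Nat.cast_one, one_smul] at h1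

theorem coprime_of_two {a b x : ℕ} (ha : Odd a) (h1 : a ∣ x) (h2 : b ∣ x + 2) : a.Coprime b := by
  refine Nat.coprime_of_dvd' fun p _ hpa hpb => ?_
  have h3 : p ∣ 2 := (Nat.dvd_add_right (hpa.trans h1)).1 (hpb.trans h2)
  have := Nat.dvd_gcd hpa h3
  rwa [ha.coprime_two_right] at this

variable (F)

theorem coprimes : ((Nat.card F) ^ 2 - 1).Coprime ((Nat.card F) ^ 2 + 1) ∧
    ((Nat.card F) ^ 3 - 1).Coprime (Nat.card F + 1) ∧
    ((Nat.card F) ^ 3 + 1).Coprime (Nat.card F - 1) ∧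
    ((Nat.card F) ^ 2 + 1).Coprime (Nat.card F + 1) ∧
    ((Nat.card F) ^ 2 + 1).Coprime (Nat.card F - 1) := by
  have hev : Even (Nat.card F) := card_even' (F := F)
  have h2 : 2 ≤ Nat.card F := Finite.one_lt_card
  obtain ⟨r, hr⟩ : ∃ r, Nat.card F = r + 1 := ⟨Nat.card F - 1, by omega⟩
  rw [hr] at hev ⊢
  have hr' : Odd r := by
    rcases Nat.even_or_odd r with h | h
    · exact absurd hev (Nat.not_even_iff_odd.2 h.add_one)
    · exact h
  have e2 : (r + 1) ^ 2 - 1 = r * (r + 2) := by rw [show (r + 1) ^ 2 = r * (r + 2) + 1 by ring]; simp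
  have e3 : (r + 1) ^ 3 - 1 = r * (r ^ 2 + 3 * r + 3) := by
    rw [show (r + 1) ^ 3 = r * (r ^ 2 + 3 * r + 3) + 1 by ring]; simp
  have e1 : r + 1 + 1 = r + 2 := rfl
  have hodd : Odd (r + 2) := hr'.add_even even_two
  have hodd2 : Odd (r * (r + 2)) := hr'.mul hodd
  refine ⟨?_, ?_, ?_, ?_, ?_⟩
  · rw [e2]
    exact coprime_of_two hodd2 dvd_rfl (dvd_of_eq (by ring))
  · rw [e3, e1]
    have hx : Odd (r * (r ^ 2 + 3 * r + 3)) := by
      rw [← e3]
      exact Nat.Even.sub_odd (Nat.one_le_pow _ _ (by omega)) (hev.pow_of_ne_zero three_ne_zero) odd_one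
    exact coprime_of_two hx dvd_rfl (Dvd.intro (r ^ 2 + r + 1) (by ring))
  · rw [Nat.add_sub_cancel]
    exact (coprime_of_two hr' (dvd_mul_right r (r ^ 2 + 3 * r + 3)) (dvd_of_eq (by ring))).symm
  · rw [e1]
    exact (coprime_of_two hodd (dvd_mul_left (r + 2) r) (dvd_of_eq (by ring))).symm
  · rw [Nat.add_sub_cancel]
    exact (coprime_of_two hr' (dvd_mul_right r (r + 2)) (dvd_of_eq (by ring))).symm

theorem tor_of_table :
    Tor F 4 (-1) (Nat.card F ^ 4 + 1) ∧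
    Tor F 4 (-1) ((Nat.card F ^ 2 - 1) * (Nat.card F ^ 2 + 1)) ∧
    Tor F 4 (-1) ((Nat.card F ^ 3 - 1) * (Nat.card F + 1)) ∧
    Tor F 4 (-1) ((Nat.card F ^ 3 + 1) * (Nat.card F - 1)) ∧
    Tor F 3 1 ((Nat.card F ^ 2 + 1) * (Nat.card F + 1)) ∧
    Tor F 3 (-1) ((Nat.card F ^ 2 + 1) * (Nat.card F - 1)) := by
  obtain ⟨c1, c2, c3, c4, c5⟩ := coprimes F
  have p1 := tor_plus (F := F) 1 le_rfl
  have m1 := tor_minus (F := F) 1 le_rfl
  rw [pow_one] at p1 m1
  refine ⟨tor_minus 4 (by norm_num), ?_, ?_, ?_, ?_, ?_⟩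
  · simpa using (tor_plus (F := F) 2 (by norm_num)).prod (tor_minus 2 (by norm_num)) c1
  · simpa using (tor_plus (F := F) 3 (by norm_num)).prod m1 c2
  · simpa using (tor_minus (F := F) 3 (by norm_num)).prod p1 c3
  · simpa using (tor_minus (F := F) 2 (by norm_num)).prod m1 c4
  · simpa using (tor_minus (F := F) 2 (by norm_num)).prod p1 c5

variable {F}

/-- Elements of the maximal orders. -/
theorem exists_orth_order (hQ : Nondeg Q) (hs : HasSign Q 4 (-1)) (t : Fin 12) :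
    ∃ g : orth Q, orderOf g = od (Fintype.card F) t * 2 ^ ex t := by
  have hq : Fintype.card F = Nat.card F := Fintype.card_eq_nat_card
  have hodd := od_odd (q := Nat.card F) card_even' Finite.one_lt_card t
  have hco : ∀ k, (od (Nat.card F) t).Coprime (2 ^ k) := fun k => (hodd.coprime_two_right).pow_right k
  obtain ⟨t0, t1, t2, t3, t6, t7⟩ := tor_of_table F
  have p1 := tor_plus (F := F) 1 le_rfl
  have m1 := tor_minus (F := F) 1 le_rfl
  rw [pow_one] at p1 m1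
  have P : (1 : ℤ) = 1 ∨ (1 : ℤ) = -1 := Or.inl rfl
  have M : (-1 : ℤ) = 1 ∨ (-1 : ℤ) = -1 := Or.inr rfl
  rw [hq]
  fin_cases t
  · obtain ⟨g, hg, -⟩ := tor_elem hQ hs t0; exact ⟨g, by rw [hg]; simp [od, ex]⟩
  · obtain ⟨g, hg, -⟩ := tor_elem hQ hs t1; exact ⟨g, by rw [hg]; simp [od, ex]⟩
  · obtain ⟨g, hg, -⟩ := tor_elem hQ hs t2; exact ⟨g, by rw [hg]; simp [od, ex]⟩
  · obtain ⟨g, hg, -⟩ := tor_elem hQ hs t3; exact ⟨g, by rw [hg]; simp [od, ex]⟩
  · exact tor_uni hQ hs (tor_plus 3 (by norm_num)) (uni_two _ M) rfl (by norm_num) (hco 1)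
  · exact tor_uni hQ hs (tor_minus 3 (by norm_num)) (uni_two _ P) rfl (by norm_num) (hco 1)
  · exact tor_uni hQ hs t6 (uni_two _ M) rfl (by norm_num) (hco 1)
  · exact tor_uni hQ hs t7 (uni_two _ P) rfl (by norm_num) (hco 1)
  · exact tor_uni hQ hs (tor_minus 2 (by norm_num)) (uni_four _ P) rfl (by norm_num) (hco 2)
  · exact tor_uni hQ hs (tor_plus 2 (by norm_num)) (uni_four _ M) rfl (by norm_num) (hco 2)
  · exact tor_uni hQ hs m1 (uni_eight _ P) rfl (by norm_num) (hco 3)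
  · exact tor_uni hQ hs p1 (uni_eight _ M) rfl (by norm_num) (hco 3)

/-- The maximal orders in the split extension by the natural module. -/
theorem exists_norm_order (hQ : Nondeg Q) (hs : HasSign Q 4 (-1)) (t : Fin 12) :
    ∃ (g : orth Q) (w : V), dickson Q g = 0 ∧
      (orderOf g = od (Fintype.card F) t * 2 ^ ex t ∨
        (orderOf g * 2 = od (Fintype.card F) t * 2 ^ ex t ∧
          ∑ i ∈ Finset.range (orderOf g), (g ^ i).1 w ≠ 0)) := by
  have hq : Fintype.card F = Nat.card F := Fintype.card_eq_nat_card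
  have hodd := od_odd (q := Nat.card F) card_even' Finite.one_lt_card t
  have hco : ∀ k, (od (Nat.card F) t).Coprime (2 ^ k) := fun k => (hodd.coprime_two_right).pow_right k
  obtain ⟨t0, t1, t2, t3, t6, t7⟩ := tor_of_table F
  have p1 := tor_plus (F := F) 1 le_rfl
  have m1 := tor_minus (F := F) 1 le_rfl
  rw [pow_one] at p1 m1
  have P : (1 : ℤ) = 1 ∨ (1 : ℤ) = -1 := Or.inl rfl
  have M : (-1 : ℤ) = 1 ∨ (-1 : ℤ) = -1 := Or.inr rfl
  have flat : ∀ {n}, (∃ g : orth Q, orderOf g = n ∧ dickson Q g = 0) → n = od (Nat.card F) t * 2 ^ ex t →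
      ∃ (g : orth Q) (w : V), dickson Q g = 0 ∧ (orderOf g = od (Nat.card F) t * 2 ^ ex t ∨
        (orderOf g * 2 = od (Nat.card F) t * 2 ^ ex t ∧ ∑ i ∈ Finset.range (orderOf g), (g ^ i).1 w ≠ 0)) := by
    rintro n ⟨g, hg, hd⟩ rfl
    exact ⟨g, 0, hd, Or.inl hg⟩
  have twist : ∀ {n}, (∃ (g : orth Q) (w : V), orderOf g = n ∧ dickson Q g = 0 ∧
      ∑ i ∈ Finset.range n, (g ^ i).1 w ≠ 0) → n * 2 = od (Nat.card F) t * 2 ^ ex t →
      ∃ (g : orth Q) (w : V), dickson Q g = 0 ∧ (orderOf g = od (Nat.card F) t * 2 ^ ex t ∨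
        (orderOf g * 2 = od (Nat.card F) t * 2 ^ ex t ∧ ∑ i ∈ Finset.range (orderOf g), (g ^ i).1 w ≠ 0)) := by
    rintro n ⟨g, w, hg, hd, hw⟩ hn
    exact ⟨g, w, hd, Or.inr ⟨by rw [hg, hn], by rwa [hg]⟩⟩
  rw [hq]
  fin_cases t
  · exact flat (tor_elem hQ hs t0) (by simp [od, ex])
  · exact flat (tor_elem hQ hs t1) (by simp [od, ex])
  · exact flat (tor_elem hQ hs t2) (by simp [od, ex])
  · exact flat (tor_elem hQ hs t3) (by simp [od, ex])
  · exact twist (tor_uniN hQ hs (tor_plus 3 (by norm_num)) (uniN_one _ M) rfl (by norm_num) (hco 0)) (by simp [od, ex])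
  · exact twist (tor_uniN hQ hs (tor_minus 3 (by norm_num)) (uniN_one _ P) rfl (by norm_num) (hco 0)) (by simp [od, ex])
  · exact twist (tor_uniN hQ hs t6 (uniN_one _ M) rfl (by norm_num) (hco 0)) (by simp [od, ex])
  · exact twist (tor_uniN hQ hs t7 (uniN_one _ P) rfl (by norm_num) (hco 0)) (by simp [od, ex])
  · exact twist (tor_uniN hQ hs (tor_minus 2 (by norm_num)) (uniN_two _ P) rfl (by norm_num) (hco 1))
      (by simp [od, ex]; ring)
  · exact twist (tor_uniN hQ hs (tor_plus 2 (by norm_num)) (uniN_two _ M) rfl (by norm_num) (hco 1))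
      (by simp [od, ex]; ring)
  · exact twist (tor_uniN hQ hs m1 (uniN_four _ P) rfl (by norm_num) (hco 2)) (by simp [od, ex]; ring)
  · exact twist (tor_uniN hQ hs p1 (uniN_four _ M) rfl (by norm_num) (hco 2)) (by simp [od, ex]; ring)

end Cfsg.Agent.Lib.Elem70.SpecEight
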