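import Cfsg.Agent.Lib.Elem70.SpecEight.Isometry
import Cfsg.Agent.Lib.Elem70.SpecEight.Lower
import Cfsg.Agent.Lib.SpectrumExt.Semidirect
import Cfsg.Agent.Lib.Symplectic.Std
import Cfsg.Prelude.Def_Classical

/-!
# The spectrum of `PSp₈(2^e)`, of `O₈⁻(2^e)`, and of extensions by the natural module

Owner: helper70.
-/

set_option autoImplicit false
set_option linter.unusedSectionVars false
set_option linter.style.haveILetI false

namespace Cfsg.Agent.Lib.Elem70.SpecEight

open Module QuadraticMap Cfsg.Agent.Lib.Forms Cfsg.Agent.Lib.Elem70.ClassCount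

/-- The common spectrum. -/
def spec8 (q : ℕ) : Set ℕ := {m | ∃ t : Fin 12, m ∣ od q t * 2 ^ ex t}

theorem mem_range_of_dvd {G : Type*} [Group G] [Finite G] (y : G) {m : ℕ} (hm : m ∣ orderOf y) :
    m ∈ Set.range (orderOf : G → ℕ) :=
  let ⟨c, hc⟩ := hm
  ⟨y ^ c, by
    have hpos : 0 < orderOf y := orderOf_pos _
    have hc0 : 0 < c := Nat.pos_of_ne_zero fun h => by rw [h, mul_zero] at hc; omega
    rw [orderOf_pow, hc, Nat.gcd_eq_right (Dvd.intro_left m rfl), Nat.mul_div_cancel _ hc0]⟩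

theorem range_eq_spec8 {G : Type*} [Group G] [Finite G] {q : ℕ}
    (hup : ∀ g : G, ∃ t : Fin 12, g ^ (od q t * 2 ^ ex t) = 1)
    (hlow : ∀ t : Fin 12, ∃ g : G, orderOf g = od q t * 2 ^ ex t) :
    Set.range (orderOf : G → ℕ) = spec8 q := by
  refine Set.Subset.antisymm ?_ ?_
  · rintro _ ⟨g, rfl⟩
    obtain ⟨t, ht⟩ := hup g
    exact ⟨t, orderOf_dvd_of_pow_eq_one ht⟩
  · rintro m ⟨t, ht⟩
    obtain ⟨g, hg⟩ := hlow t
    exact mem_range_of_dvd g (hg.symm ▸ ht)

universe u

variable {F : Type u} [Field F] [Fintype F] [CharP F 2] {ι : Type} [Fintype ι] [DecidableEq ι]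
  {Q : QuadraticForm F (ι → F)}

/-- The bound for isometries of a quadratic form. -/
theorem orth_bound (hι : Fintype.card ι = 8) (hQ : Nondeg Q) (g : orth Q) :
    ∃ t : Fin 12, g ^ (od (Fintype.card F) t * 2 ^ ex t) = 1 ∧
      (dickson Q g = 0 → ∀ w, ∑ j ∈ Finset.range (od (Fintype.card F) t * 2 ^ ex t), (g ^ j).1 w = 0) := by
  set A : Matrix ι ι F := LinearMap.toMatrix' (g.1 : (ι → F) →ₗ[F] (ι → F)) with hA
  have hmul : ∀ v, A.mulVec v = g.1 v := fun v => by
    rw [hA, ← Matrix.toLin'_apply, Matrix.toLin'_toMatrix']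
    rfl
  have hpow : ∀ (j : ℕ) v, (A ^ j).mulVec v = (g ^ j).1 v := by
    intro j
    induction j with
    | zero => intro v; rw [pow_zero, pow_zero, Matrix.one_mulVec]; rfl
    | succ j ih =>
      intro v
      rw [pow_succ, pow_succ, ← Matrix.mulVec_mulVec, hmul, ih]
      rfl
  have hgram : A.transpose * gram Q * A = gram Q := by
    ext i j
    have := Forms.polar_map (Matrix.mulVecLin A) (fun v => by rw [Matrix.mulVecLin_apply, hmul]; exact g.2 v)
      (Pi.single i 1) (Pi.single j 1)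
    rw [polar_eq_gram, polar_eq_gram, Matrix.mulVecLin_apply, Matrix.mulVecLin_apply,
      Matrix.dotProduct_mulVec, Matrix.dotProduct_mulVec, ← Matrix.vecMul_transpose,
      Matrix.vecMul_vecMul, Matrix.dotProduct_mulVec, Matrix.vecMul_vecMul,
      ← Matrix.dotProduct_mulVec, ← Matrix.dotProduct_mulVec] at this
    simpa [Matrix.mul_assoc] using this
  obtain ⟨t, h1, h2⟩ := exists_bound hι A (gram Q) (isUnit_iff_ne_zero.2 (gram_det_ne_zero hQ)) hgram
  refine ⟨t, Subtype.ext (LinearEquiv.ext fun v => ?_), fun hd w => ?_⟩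
  · rw [← hpow, h1, Matrix.one_mulVec]
    rfl
  · have hev : Even (A - 1).rank := by
      rw [Matrix.rank, show (A - 1).mulVecLin = dev g.1 from LinearMap.ext fun v => by
        rw [Matrix.mulVecLin_apply, Matrix.sub_mulVec, Matrix.one_mulVec, hmul, dev_apply]]
      exact ZMod.natCast_eq_zero_iff_even.1 hd
    have h3 := congrArg (fun B : Matrix ι ι F => B.mulVec w) (h2 hev)
    simp only [Matrix.zero_mulVec, Matrix.sum_mulVec, hpow] at h3
    exact h3

theorem finite_orth : Finite (orth Q) := by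
  haveI : Finite (ι → F) := inferInstance
  exact Finite.of_injective (fun g : orth Q => (g.1 : (ι → F) → (ι → F)))
    fun a b h => Subtype.ext (LinearEquiv.ext (congrFun h))

theorem range_orderOf_orth (hι : Fintype.card ι = 8) (hQ : Nondeg Q) (hs : HasSign Q 4 (-1)) :
    Set.range (orderOf : orth Q → ℕ) = spec8 (Fintype.card F) := by
  haveI := finite_orth (Q := Q)
  exact range_eq_spec8 (fun g => (orth_bound hι hQ g).imp fun t h => h.1) (exists_orth_order hQ hs)

theorem range_orderOf_isometryGroup (a b : F)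
    (hab : ∀ z₁ z₂ : F, z₁ ^ 2 + a * z₁ * z₂ + b * z₂ ^ 2 = 0 → z₁ = 0 ∧ z₂ = 0) :
    Set.range (orderOf : ↥(Cfsg.isometryGroup F (Cfsg.quadFormMinus 3 F a b)) → ℕ) =
      spec8 (Fintype.card F) := by
  let e := isoOrth (qMinus 3 a b) (f := Cfsg.quadFormMinus 3 F a b) (fun v => (qMinus_apply 3 a b v).symm)
  rw [← range_orderOf_orth (Q := qMinus 3 a b) (by simp) (qMinus_nondeg 3 hab) (hasSign_minus 3 hab)]
  ext m
  exact ⟨fun ⟨g, hg⟩ => ⟨e g, by rw [e.orderOf_eq, hg]⟩, fun ⟨g, hg⟩ => ⟨e.symm g, by rw [e.symm.orderOf_eq, hg]⟩⟩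

variable (F)

theorem exists_aniso_minus : ∃ a b : F, (∀ z₁ z₂ : F, z₁ ^ 2 + a * z₁ * z₂ + b * z₂ ^ 2 = 0 → z₁ = 0 ∧ z₂ = 0) :=
  OrthField.exists_aniso F

/-- The spectrum of `PSp₈(2^e)`. -/
theorem range_orderOf_psp : Set.range (orderOf : Cfsg.PSp 4 F → ℕ) = spec8 (Fintype.card F) := by
  classical
  obtain ⟨a, b, hab⟩ := exists_aniso_minus F
  refine range_eq_spec8 (fun x => ?_) (fun t => ?_)
  · obtain ⟨g, rfl⟩ := QuotientGroup.mk_surjective x
    have hg : (g : Matrix (Fin 4 ⊕ Fin 4) (Fin 4 ⊕ Fin 4) F).transpose * Matrix.J (Fin 4) F * g = Matrix.J (Fin 4) F := by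
      have h := SymplecticGroup.transpose_mem g.2
      rw [SymplecticGroup.mem_iff, Matrix.transpose_transpose] at h
      exact h
    obtain ⟨t, h, -⟩ := exists_bound (by simp) _ _ (Matrix.isUnit_det_J (Fin 4) F) hg
    refine ⟨t, ?_⟩
    rw [← QuotientGroup.mk_pow, QuotientGroup.eq_one_iff]
    have : g ^ (od (Fintype.card F) t * 2 ^ ex t) = 1 := Subtype.ext (by rw [SubmonoidClass.coe_pow, h]; rfl)
    rw [this]
    exact one_mem _
  · obtain ⟨g, hg⟩ := exists_orth_order (qMinus_nondeg 3 hab) (hasSign_minus 3 hab) t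
    have hB : Symplectic.IsSympForm (QuadraticMap.polarBilin (qMinus 3 a b)) := by
      refine ⟨fun x => ?_, fun x hx => qMinus_nondeg 3 hab x hx⟩
      show polar (qMinus 3 a b) x x = 0
      rw [polar_self', CharTwo.two_eq_zero, zero_mul]
    obtain ⟨e⟩ := Symplectic.nonempty_isom_mulEquiv_sp (m := 4) hB (by simp)
    let φ : orth (qMinus 3 a b) →* Symplectic.Isom (QuadraticMap.polarBilin (qMinus 3 a b)) :=
      { toFun := fun k => ⟨k.1, fun x y => orth_polar k.2 x y⟩
        map_one' := rfl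
        map_mul' := fun _ _ => rfl }
    have hφ : Function.Injective φ := fun k k' h =>
      Subtype.ext (congrArg (fun z : Symplectic.Isom (QuadraticMap.polarBilin (qMinus 3 a b)) => z.1) h)
    let π : Matrix.symplecticGroup (Fin 4) F →* Cfsg.PSp 4 F := QuotientGroup.mk' _
    have hπ : Function.Injective π := (injective_iff_map_eq_one π).2 fun z hz => by
      rw [QuotientGroup.mk'_apply, QuotientGroup.eq_one_iff, Symplectic.mem_center_sp_iff] at hz
      rcases hz with h | h
      · exact Subtype.ext h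
      · refine Subtype.ext (h.trans ?_)
        ext i j
        simp [Matrix.one_apply, CharTwo.neg_eq]
    refine ⟨π (e (φ g)), ?_⟩
    rw [orderOf_injective π hπ, MulEquiv.orderOf_eq, orderOf_injective φ hφ, hg]

open Cfsg.Agent.Lib.SpectrumExt in
/-- Arbitrarily large extensions with the same spectrum. -/
theorem exists_large (F₀ : Type) [Field F₀] [Fintype F₀] [CharP F₀ 2] (M : ℕ) :
    ∃ (H : Type) (_ : Group H) (_ : Fintype H), M < Fintype.card H ∧
      Set.range (orderOf : H → ℕ) = spec8 (Fintype.card F₀) := by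
  classical
  obtain ⟨a, b, hab⟩ := exists_aniso_minus F₀
  set V := (Fin 3 ⊕ Fin 3) ⊕ Fin 2 → F₀
  set Q := qMinus 3 a b
  have hQ : Nondeg Q := qMinus_nondeg 3 hab
  have hs : HasSign Q 4 (-1) := hasSign_minus 3 hab
  have h4 : finrank F₀ V ≠ 4 := by rw [hs.finrank_eq]; norm_num
  let X : Subgroup (orth Q) := (dicksonHom hQ (Or.inr h4)).ker
  have hX : ∀ g : orth Q, g ∈ X ↔ dickson Q g = 0 := fun g => ofAdd_eq_one
  haveI : Finite (orth Q) := finite_orth
  let A := Fin (M + 1) → V
  let ρ : X →* AddMonoid.End A :=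
    { toFun := fun x =>
        { toFun := fun f j => x.1.1 (f j)
          map_zero' := funext fun j => map_zero x.1.1
          map_add' := fun f f' => funext fun j => map_add x.1.1 (f j) (f' j) }
      map_one' := rfl
      map_mul' := fun _ _ => rfl }
  haveI : Finite A := Pi.finite
  haveI : Finite X := Subtype.finite
  letI : Fintype (Semidirect.Ext ρ) := Fintype.ofFinite _
  refine ⟨Semidirect.Ext ρ, inferInstance, inferInstance, ?_, range_eq_spec8 ?_ ?_⟩
  · have h1 : M + 1 < Nat.card A := by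
      have hV : 2 ≤ Nat.card V := by
        haveI : Nontrivial V := Module.nontrivial_of_finrank_eq_succ (n := 7) hs.finrank_eq
        exact Finite.one_lt_card
      rw [Nat.card_fun, Nat.card_fin]
      exact Nat.lt_of_lt_of_le (Nat.lt_two_pow_self) (Nat.pow_le_pow_left hV _)
    rw [← Nat.card_eq_fintype_card, Nat.card_congr SemidirectProduct.equivProd, Nat.card_prod]
    have h2 : Nat.card A ≤ Nat.card (Multiplicative A) * Nat.card X :=
      le_trans (le_of_eq (Nat.card_congr Multiplicative.toAdd).symm) (Nat.le_mul_of_pos_right _ Nat.card_pos)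
    omega
  · rintro ⟨f, x⟩
    obtain ⟨t, h1, h2⟩ := orth_bound (Q := Q) (by simp) hQ x.1
    refine ⟨t, ?_⟩
    obtain ⟨hl, hr⟩ := Semidirect.pow_left ρ (Multiplicative.toAdd f) x (od (Fintype.card F₀) t * 2 ^ ex t)
    refine SemidirectProduct.ext (hl.trans ?_) (hr.trans (Subtype.ext (by rw [SubmonoidClass.coe_pow, h1]; rfl)))
    rw [SemidirectProduct.one_left, ← ofAdd_zero]
    congr 1
    funext j
    rw [Semidirect.norm, Finset.sum_apply]
    exact h2 ((hX x.1).1 x.2) _
  · intro t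
    obtain ⟨g, w, hd, h⟩ := exists_norm_order hQ hs t
    set x : X := ⟨g, (hX g).2 hd⟩
    have hx : orderOf x = orderOf g := (Subgroup.orderOf_coe x).symm
    rcases h with h | ⟨h, hw⟩
    · exact ⟨SemidirectProduct.inr x, by rw [orderOf_injective _ SemidirectProduct.inr_injective, hx, h]⟩
    · refine ⟨⟨Multiplicative.ofAdd (fun _ => w), x⟩, ?_⟩
      rw [(Semidirect.orderOf_mk ρ Nat.prime_two (fun f => funext fun j => by
        rw [Pi.smul_apply, Pi.zero_apply, two_nsmul]
        exact funext fun i => CharTwo.add_self_eq_zero (f j i)) (fun _ => w) x).2 ?_, hx, h]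
      intro h0
      refine hw ?_
      have h1 := congrFun h0 0
      rw [Semidirect.norm, Finset.sum_apply, hx] at h1
      exact h1

end Cfsg.Agent.Lib.Elem70.SpecEight
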