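import Cfsg.Agent.Lib.Elem70.ClassCount.OrthForms
import Cfsg.Agent.Lib.Elusive19.OrthModels
import Cfsg.Agent.Lib.SylowOrth52.Model

/-!
# Cyclic tori of orthogonal groups in characteristic two

Owner: helper70.
-/

set_option autoImplicit false
set_option linter.unusedSectionVars false
set_option linter.style.haveILetI false

namespace Cfsg.Agent.Lib.Elem70.SpecEight

open Module QuadraticMap Cfsg.Agent.Lib.Forms Cfsg.Agent.Lib.Elem70.ClassCount

universe u

variable {F : Type u} [Field F] [Finite F] [CharP F 2]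

/-- An element of odd order `n` in an orthogonal group of sign `ε` and dimension `2 m`. -/
def Tor (F : Type u) [Field F] [Finite F] (m : ℕ) (ε : ℤ) (n : ℕ) : Prop :=
  ∃ (Q : QuadraticForm F (Fin (2 * m) → F)) (g : orth Q),
    Nondeg Q ∧ HasSign Q m ε ∧ orderOf g = n ∧ Odd n

/-- Coordinates for a space with a sign. -/
theorem exists_std {V : Type*} [AddCommGroup V] [Module F V] [FiniteDimensional F V]
    {Q : QuadraticForm F V} (hQ : Nondeg Q) {m : ℕ} {ε : ℤ} (hs : HasSign Q m ε) :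
    ∃ (Q' : QuadraticForm F (Fin (2 * m) → F)) (_ : Q.IsometryEquiv Q'), Nondeg Q' ∧ HasSign Q' m ε := by
  let e : V ≃ₗ[F] (Fin (2 * m) → F) := (Module.finBasisOfFinrankEq F V hs.finrank_eq).equivFun
  let i : Q.IsometryEquiv (Q.comp e.symm.toLinearMap) :=
    { toLinearEquiv := e, map_app' := fun v => congrArg Q (e.symm_apply_apply v) }
  exact ⟨_, i, hQ.of_equiv i, hs.congr ⟨i⟩⟩

theorem Tor.mk {V : Type*} [AddCommGroup V] [Module F V] [FiniteDimensional F V]
    {Q : QuadraticForm F V} (hQ : Nondeg Q) {m : ℕ} {ε : ℤ} (hs : HasSign Q m ε) (g : orth Q) {n : ℕ}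
    (hg : orderOf g = n) (hn : Odd n) : Tor F m ε n := by
  obtain ⟨Q', i, hQ', hs'⟩ := exists_std hQ hs
  exact ⟨Q', orthCongr i g, hQ', hs', by rw [MulEquiv.orderOf_eq, hg], hn⟩

theorem card_even' : Even (Nat.card F) := by
  haveI : Fact (Nat.Prime 2) := ⟨Nat.prime_two⟩
  obtain ⟨k, hk⟩ := Elusive19.card_even (F := F)
  have hk0 : k ≠ 0 := fun h => by
    rw [h, pow_zero] at hk
    exact (Finite.one_lt_card (α := F)).ne' hk
  rw [hk]
  exact Nat.even_pow.2 ⟨even_two, hk0⟩

theorem tor_plus (d : ℕ) (hd : 1 ≤ d) : Tor F d 1 (Nat.card F ^ d - 1) := by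
  haveI : Fact (Nat.Prime 2) := ⟨Nat.prime_two⟩
  haveI : NeZero d := ⟨by omega⟩
  let L := FiniteField.Extension F 2 d
  obtain ⟨c, hc⟩ := IsCyclic.exists_ofOrder_eq_natCard (α := Lˣ)
  rw [Nat.card_units, FiniteField.natCard_extension] at hc
  have hinj : Function.Injective (Elusive19.scaleHom F L) := fun a b h => Units.ext (by
    have := congrArg (fun g : orth (Elusive19.hypForm F L) => (g.1 (1, 0)).1) h
    simpa [Elusive19.scaleHom, Elusive19.scaleOrth_apply] using this)
  refine Tor.mk Elusive19.hypForm_nondeg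
    ((hasSign_plus d).congr (Elusive19.hypForm_equiv (FiniteField.finrank_extension F 2 d)).symm)
    (Elusive19.scaleHom F L c) ?_ ?_
  · rw [orderOf_injective _ hinj, hc]
  · exact Nat.Even.sub_odd (Nat.one_le_pow _ _ Nat.card_pos) (card_even'.pow_of_ne_zero (by omega)) odd_one

theorem tor_minus (d : ℕ) (hd : 1 ≤ d) : Tor F d (-1) (Nat.card F ^ d + 1) := by
  haveI : Fact (Nat.Prime 2) := ⟨Nat.prime_two⟩
  haveI : NeZero (2 * d) := ⟨by omega⟩
  set L := FiniteField.Extension F 2 (2 * d)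
  set q := Nat.card F
  set σ : L ≃ₐ[F] L := FiniteField.Extension.frob F 2 (2 * d) ^ d
  have hσ : ∀ x, σ x = x ^ (q ^ d) := fun x => FiniteField.Extension.frob_iterate_apply F 2 (2 * d) d
  have hsq : q ^ (2 * d) = q ^ d * q ^ d := by rw [two_mul, pow_add]
  have hcard : Nat.card L = q ^ d * q ^ d := by rw [FiniteField.natCard_extension, hsq]
  have hQ2 : 2 ≤ q ^ d := le_trans Finite.one_lt_card (Nat.le_self_pow (by omega) q)
  have hσσ : ∀ x, σ (σ x) = x := fun x => by
    haveI := Fintype.ofFinite L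
    rw [hσ, hσ, ← pow_mul, ← hcard, ← Fintype.card_eq_nat_card, FiniteField.pow_card]
  obtain ⟨c, hc⟩ := IsCyclic.exists_ofOrder_eq_natCard (α := Lˣ)
  rw [Nat.card_units, hcard] at hc
  have hfac : q ^ d * q ^ d - 1 = (q ^ d - 1) * (q ^ d + 1) := by
    obtain ⟨r, hr⟩ := Nat.exists_eq_add_of_le (le_trans one_le_two hQ2)
    rw [hr, Nat.add_sub_cancel_left]
    have : (1 + r) * (1 + r) = r * (1 + r + 1) + 1 := by ring
    omega
  have hσc : σ (c : L) ≠ c := by
    rw [hσ, ← Units.val_pow_eq_pow_val]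
    intro h
    have h1 := Units.ext h
    have h2 : c ^ (q ^ d - 1) = 1 := by
      rw [← mul_eq_left (a := c), ← pow_succ', Nat.sub_add_cancel (by omega)]
      exact h1
    refine pow_ne_one_of_lt_orderOf (by omega) ?_ h2
    rw [hc, hfac]
    exact lt_mul_of_one_lt_right (by omega) (by omega)
  obtain ⟨e, he⟩ := Elusive19.exists_splitting σ hσσ hσc
  let β : L →ₗ[F] L →ₗ[F] F :=
    (Algebra.traceForm F L).compl₁₂ (LinearMap.mulLeft F e) σ.toLinearMap
  let Q : QuadraticForm F L := LinearMap.BilinMap.toQuadraticMap β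
  have hQ : ∀ x, Q x = Algebra.trace F L (e * x * σ x) := fun x => rfl
  have hpol : ∀ x y, polar Q x y = Algebra.trace F L (x * σ y) := fun x y => by
    rw [polar, hQ, hQ, hQ, map_add σ, ← map_sub, ← map_sub]
    rw [show e * (x + y) * (σ x + σ y) - e * x * σ x - e * y * σ y =
      e * x * σ y + e * y * σ x by ring, map_add,
      ← Algebra.trace_eq_of_algEquiv σ (e * y * σ x), ← map_add]
    congr 1
    rw [map_mul, map_mul, hσσ]
    linear_combination (x * σ y) * he
  have hnd : Nondeg Q := fun x hx => (traceForm_nondegenerate F L).1 x fun y => by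
    have := hx (σ y)
    rwa [hpol, hσσ, ← Algebra.traceForm_apply] at this
  set ζ := c ^ (q ^ d - 1) with hζdef
  have hζ : orderOf ζ = q ^ d + 1 := by
    rw [hζdef, orderOf_pow_of_dvd (by omega) (hc ▸ hfac ▸ dvd_mul_right _ _), hc, hfac,
      Nat.mul_div_cancel_left _ (by omega)]
  let N : Subgroup Lˣ := Subgroup.zpowers ζ
  have hnorm : ∀ z : N, ((z : Lˣ) : L) * σ ((z : Lˣ) : L) = 1 := fun z => by
    rw [hσ, ← pow_succ', ← Units.val_pow_eq_pow_val]
    have h1 : orderOf (z : Lˣ) ∣ q ^ d + 1 := hζ ▸ orderOf_dvd_of_mem_zpowers z.2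
    rw [orderOf_dvd_iff_pow_eq_one.1 h1, Units.val_one]
  let φ : N →* orth Q :=
    { toFun := fun z => ⟨
        { toFun := fun x => ((z : Lˣ) : L) * x
          map_add' := fun x y => mul_add _ _ _
          map_smul' := fun a x => mul_smul_comm a _ _
          invFun := fun x => (((z : Lˣ)⁻¹ : Lˣ) : L) * x
          left_inv := fun x => by simp
          right_inv := fun x => by simp }, fun v => by
          show Q (((z : Lˣ) : L) * v) = Q v
          rw [hQ, hQ, map_mul σ]
          congr 1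
          linear_combination (e * v * σ v) * hnorm z⟩
      map_one' := Subtype.ext (LinearEquiv.ext fun x => by
        show (((1 : N) : Lˣ) : L) * x = x
        simp)
      map_mul' := fun a b => Subtype.ext (LinearEquiv.ext fun x => by
        show ((((a * b : N)) : Lˣ) : L) * x = ((a : Lˣ) : L) * (((b : Lˣ) : L) * x)
        simp [mul_assoc]) }
  have hφ : ∀ (z : N) (x : L), (φ z).1 x = ((z : Lˣ) : L) * x := fun _ _ => rfl
  have hfree : ∀ (z : N), z ≠ 1 → ∀ x, (φ z).1 x = x → x = 0 := fun z hz x hx => by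
    by_contra h
    exact hz (Subtype.ext (Units.ext (mul_right_cancel₀ h ((hφ z x).symm.trans (hx.trans (one_mul x).symm)))))
  have hinj : Function.Injective φ := (injective_iff_map_eq_one φ).2 fun z hz => by
    by_contra h
    exact one_ne_zero (hfree z h 1 (by rw [hz]; rfl))
  set z₀ : N := ⟨ζ, Subgroup.mem_zpowers ζ⟩
  have hz₀ : orderOf z₀ = q ^ d + 1 := by rw [← Subgroup.orderOf_coe, hζ]
  have hfin : finrank F L = 2 * d := FiniteField.finrank_extension F 2 (2 * d)
  have hodd : Odd (q ^ d + 1) := (card_even'.pow_of_ne_zero (by omega)).add_one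
  refine Tor.mk hnd ?_ (φ z₀) ((orderOf_injective φ hinj z₀).trans hz₀) hodd
  -- the sign
  set r := (q ^ d + 1).minFac
  haveI : Fact r.Prime := ⟨Nat.minFac_prime (by omega)⟩
  have hrd : r ∣ q ^ d + 1 := Nat.minFac_dvd _
  have hrq : ¬ r ∣ Nat.card F := fun h => by
    have h1 : r ∣ 1 := (Nat.dvd_add_right (dvd_trans h (dvd_pow_self _ (by omega)))).1 hrd
    exact (Fact.out : r.Prime).ne_one (Nat.dvd_one.1 h1)
  set z₁ := z₀ ^ ((q ^ d + 1) / r)
  have hz₁ : orderOf z₁ = r := by
    have h := orderOf_pow_orderOf_div (x := z₀) (n := r) (by omega) (hz₀.symm ▸ hrd)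
    rwa [hz₀] at h
  rcases exists_hasSign hnd hfin with ⟨h, -⟩ | ⟨h, -⟩
  · exfalso
    have h1 := sign_of_free h hrq (φ z₁) (by rw [← map_pow, ← hz₁, pow_orderOf_eq_one, map_one])
      (hfree z₁ fun he => by rw [he, orderOf_one] at hz₁; exact (Fact.out : r.Prime).ne_one hz₁.symm)
    have h2 : ((q ^ d + 1 : ℕ) : ZMod r) = 0 := (ZMod.natCast_eq_zero_iff _ _).2 hrd
    push_cast at h2 h1
    rw [h1] at h2
    have h3 : ((2 : ℕ) : ZMod r) = 0 := by push_cast; linear_combination h2
    have h4 := (ZMod.natCast_eq_zero_iff _ _).1 h3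
    have h5 : r = 2 := (Nat.prime_dvd_prime_iff_eq Fact.out Nat.prime_two).1 h4
    rw [h5] at hrd
    exact (Nat.not_even_iff_odd.2 hodd) (even_iff_two_dvd.2 hrd)
  · exact h

theorem Tor.prod {m m' n n' : ℕ} {ε δ : ℤ} (h : Tor F m ε n) (h' : Tor F m' δ n') (hco : n.Coprime n') :
    Tor F (m + m') (ε * δ) (n * n') := by
  obtain ⟨Q, g, hQ, hs, hg, ho⟩ := h
  obtain ⟨Q', g', hQ', hs', hg', ho'⟩ := h'
  refine Tor.mk (prod_nondeg hQ hQ') (hs.prod hs') (SylowOrth52.orthProd Q Q' (g, g')) ?_ (ho.mul ho')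
  rw [orderOf_injective _ (SylowOrth52.orthProd_injective Q Q'), Prod.orderOf_mk, hg, hg']
  exact hco.lcm_eq_mul

end Cfsg.Agent.Lib.Elem70.SpecEight
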