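import Cfsg.Agent.Lib.Elem70.SpecEight.Table

/-!
# Element orders of isometries of an eight-dimensional form in characteristic two

Owner: helper70.
-/

set_option autoImplicit false
set_option linter.unusedSimpArgs false
set_option linter.unusedSectionVars false
set_option linter.style.haveILetI false

namespace Cfsg.Agent.Lib.Elem70.SpecEight

open Polynomial

section Field

variable {K : Type*} [Field K] [CharP K 2]

theorem pow_two_pow_inj {k : ℕ} {a b : K} (h : a ^ 2 ^ k = b ^ 2 ^ k) : a = b := by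
  haveI : Fact (Nat.Prime 2) := ⟨Nat.prime_two⟩
  have h1 : (a - b) ^ 2 ^ k = 0 := by rw [sub_pow_char_pow, h, sub_self]
  exact sub_eq_zero.1 (pow_eq_zero_iff (pow_ne_zero k two_ne_zero) |>.1 h1)

theorem eq_one_of_eq_inv {y : K} (hy : y ≠ 0) (h : y = y⁻¹) : y = 1 := by
  refine pow_two_pow_inj (k := 1) ?_
  rw [one_pow, pow_one, pow_two]
  nth_rw 2 [h]
  exact mul_inv_cancel₀ hy

/-- `x` lies in the torus of kind `a`. -/
def Kind (q : ℕ) (x : K) (a : Fin 8) : Prop :=
  (x ^ q ^ deg a = if a.val % 2 = 1 then x else x⁻¹) ∧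
    ∀ e, 0 < e → e < deg a → x ^ q ^ e ≠ x ∧ x ^ q ^ e ≠ x⁻¹

variable {q k : ℕ}

theorem Kind.deg_eq {x : K} {a b : Fin 8} (ha : Kind q x a) (hb : Kind q x b) : deg a = deg b := by
  by_contra hne
  rcases Ne.lt_or_gt hne with h | h
  · have := hb.2 (deg a) (Nat.succ_pos _) h
    have h1 := ha.1
    split_ifs at h1 <;> simp_all
  · have := ha.2 (deg b) (Nat.succ_pos _) h
    have h1 := hb.1
    split_ifs at h1 <;> simp_all

theorem Kind.unique {x : K} (hx0 : x ≠ 0) (hx : x ≠ 1) {a b : Fin 8} (ha : Kind q x a) (hb : Kind q x b) :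
    a = b := by
  have hd := ha.deg_eq hb
  have hd' : a.val / 2 = b.val / 2 := by simpa [deg] using hd
  by_cases hp : a.val % 2 = b.val % 2
  · exact Fin.ext (by omega)
  exfalso
  have h1 := ha.1
  have h2 := hb.1
  rw [hd] at h1
  rw [h2] at h1
  rcases Nat.mod_two_eq_zero_or_one a.val with e | e <;> rcases Nat.mod_two_eq_zero_or_one b.val with e' | e' <;>
    simp only [e, e', if_true, if_false, zero_ne_one, if_neg, not_false_iff] at h1
  · exact hp (by omega)
  · exact hx (eq_one_of_eq_inv hx0 h1)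
  · exact hx (eq_one_of_eq_inv hx0 h1.symm)
  · exact hp (by omega)

theorem Kind.frob (hq : q = 2 ^ k) {x : K} {a : Fin 8} (h : Kind q x a) : Kind q (x ^ q) a := by
  have key : ∀ e, (x ^ q) ^ q ^ e = (x ^ q ^ e) ^ q := fun e => by rw [← pow_mul, ← pow_mul, mul_comm]
  refine ⟨?_, fun e he he' => ?_⟩
  · rw [key, h.1]
    split_ifs
    · rfl
    · rw [inv_pow]
  · obtain ⟨h1, h2⟩ := h.2 e he he'
    rw [key, ← inv_pow]
    subst hq
    exact ⟨fun h' => h1 (pow_two_pow_inj h'), fun h' => h2 (pow_two_pow_inj h')⟩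

omit [CharP K 2] in
theorem Kind.inv {x : K} {a : Fin 8} (h : Kind q x a) : Kind q x⁻¹ a := by
  refine ⟨?_, fun e he he' => ?_⟩
  · rw [inv_pow, h.1]
    split_ifs <;> simp
  · obtain ⟨h1, h2⟩ := h.2 e he he'
    rw [inv_pow]
    exact ⟨fun h' => h1 (inv_injective h'), fun h' => h2 (by rw [← inv_inj]; exact h')⟩

omit [CharP K 2] in
theorem Kind.pow_val {x : K} (hx0 : x ≠ 0) {a : Fin 8} (hq : 1 ≤ q) (h : Kind q x a) : x ^ val q a = 1 := by
  have h1 := h.1
  unfold val
  split_ifs with hp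
  · rw [if_pos hp] at h1
    rw [pow_sub₀ x hx0 (Nat.one_le_pow _ _ hq), pow_one, h1, mul_inv_cancel₀ hx0]
  · rw [if_neg hp] at h1
    rw [pow_succ, h1, inv_mul_cancel₀ hx0]

variable {R : Multiset K}

open Classical in
theorem exists_kind (hq : q = 2 ^ k) (hcard : R.card ≤ 8) (h0 : (0 : K) ∉ R)
    (hfrob : ∀ x, R.count (x ^ q) = R.count x) (hinv : ∀ x, R.count x⁻¹ = R.count x) {x : K} (hx : x ∈ R)
    (hx1 : x ≠ 1) : ∃ a, Kind q x a := by
  have hx0 : x ≠ 0 := fun h => h0 (h ▸ hx)
  have hiter : ∀ i, R.count (x ^ q ^ i) = R.count x := by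
    intro i
    induction i with
    | zero => simp
    | succ i ih => rw [pow_succ, pow_mul, hfrob, ih]
  have hinj : ∀ i {a b : K}, a ^ q ^ i = b ^ q ^ i → a = b := fun i a b h =>
    pow_two_pow_inj (k := k * i) (by rwa [pow_mul, ← hq])
  have hex : ∃ e, 0 < e ∧ e ≤ 4 ∧ (x ^ q ^ e = x ∨ x ^ q ^ e = x⁻¹) := by
    let f : Fin 5 × Bool → K := fun p => if p.2 then x ^ q ^ (p.1 : ℕ) else (x ^ q ^ (p.1 : ℕ))⁻¹
    obtain ⟨p, -, p', -, hne, hf⟩ := Finset.exists_ne_map_eq_of_card_lt_of_maps_to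
      (s := (Finset.univ : Finset (Fin 5 × Bool))) (t := R.toFinset) (f := f)
      (by
        have := R.toFinset_card_le
        simp
        omega)
      (by
        rintro ⟨i, s⟩ -
        simp only [Finset.mem_coe, Multiset.mem_toFinset, f]
        rw [← Multiset.count_pos]
        have := Multiset.count_pos.2 hx
        cases s <;> simp [hinv, hiter] <;> exact this)
    have main : ∀ i j : Fin 5, i < j → ∀ s s', f (i, s) = f (j, s') →
        ∃ e, 0 < e ∧ e ≤ 4 ∧ (x ^ q ^ e = x ∨ x ^ q ^ e = x⁻¹) := by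
      intro i j hij s s' h
      refine ⟨j.val - i.val, by omega, by omega, ?_⟩
      have e1 : ∀ y : K, y ^ q ^ (j : ℕ) = (y ^ q ^ ((j : ℕ) - i)) ^ q ^ (i : ℕ) := fun y => by
        rw [← pow_mul, ← pow_add, Nat.sub_add_cancel (by omega)]
      simp only [f] at h
      cases s <;> cases s' <;> simp only [if_true, if_false, Bool.false_eq_true] at h
      · exact Or.inl (hinj _ (((e1 x).symm.trans (inv_injective h).symm)))
      · exact Or.inr (hinj i (by rw [← e1, inv_pow]; exact h.symm))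
      · exact Or.inr (hinj i (by rw [← e1, inv_pow, h, inv_inv]))
      · exact Or.inl (hinj _ (((e1 x).symm.trans h.symm)))
    rcases lt_trichotomy p.1 p'.1 with h | h | h
    · exact main _ _ h _ _ hf
    · exfalso
      obtain ⟨i, s⟩ := p
      obtain ⟨j, s'⟩ := p'
      simp only at h
      subst h
      have hy : x ^ q ^ (i : ℕ) = (x ^ q ^ (i : ℕ))⁻¹ := by
        simp only [f] at hf
        cases s <;> cases s' <;> simp only [if_true, if_false, Bool.false_eq_true] at hf
        · exact absurd rfl hne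
        · exact hf.symm
        · exact hf
        · exact absurd rfl hne
      exact hx1 (hinj i ((eq_one_of_eq_inv (pow_ne_zero _ hx0) hy).trans (one_pow _).symm))
    · exact main _ _ h _ _ hf.symm
  obtain ⟨hd0, hd4, hd⟩ := Nat.find_spec hex
  have hmin : ∀ e, 0 < e → e < Nat.find hex → x ^ q ^ e ≠ x ∧ x ^ q ^ e ≠ x⁻¹ := fun e he he' => by
    have := Nat.find_min hex he'
    push Not at this
    exact this he (by omega)
  set d := Nat.find hex
  rcases hd with h | h
  · exact ⟨⟨2 * (d - 1) + 1, by omega⟩, by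
      have : deg (⟨2 * (d - 1) + 1, by omega⟩ : Fin 8) = d := by simp only [deg]; omega
      exact ⟨by rw [this, h, if_pos (by show (2 * (d - 1) + 1) % 2 = 1; omega)], by rw [this]; exact hmin⟩⟩
  · exact ⟨⟨2 * (d - 1), by omega⟩, by
      have : deg (⟨2 * (d - 1), by omega⟩ : Fin 8) = d := by simp only [deg]; omega
      exact ⟨by rw [this, h, if_neg (by show ¬ (2 * (d - 1)) % 2 = 1; omega)], by rw [this]; exact hmin⟩⟩

open Classical in
/-- Multisets of eigenvalues closed under Frobenius and inversion. -/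
theorem roots_covered (hq : q = 2 ^ k) (hcard : R.card ≤ 8) (h0 : (0 : K) ∉ R)
    (hfrob : ∀ x, R.count (x ^ q) = R.count x) (hinv : ∀ x, R.count x⁻¹ = R.count x) :
    ∃ t : Fin 12, (∀ x ∈ R, x ^ od q t = 1) ∧ (∀ x ∈ R, R.count x ≤ 2 ^ ex t) ∧
      need (R.count 1) ≤ 2 ^ ex t := by
  have hq1 : 1 ≤ q := hq ▸ Nat.one_le_two_pow
  set U := R.toFinset.erase 1 with hU
  have hmemU : ∀ {x}, x ∈ U → x ∈ R ∧ x ≠ 1 ∧ x ≠ 0 := fun {x} hx => by
    rw [hU, Finset.mem_erase, Multiset.mem_toFinset] at hx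
    exact ⟨hx.2, hx.1, fun h => h0 (h ▸ hx.2)⟩
  set S : Finset (Fin 8) := Finset.univ.filter (fun a => ∃ x ∈ U, Kind q x a) with hS
  have hrep : ∀ a ∈ S, ∃ x ∈ U, Kind q x a := fun a ha => (Finset.mem_filter.1 ha).2
  -- orbits
  let O : K → Fin 8 → Finset K := fun x a =>
    (Finset.range (deg a) ×ˢ (Finset.univ : Finset Bool)).image
      fun p => if p.2 then x ^ q ^ p.1 else (x ^ q ^ p.1)⁻¹
  have hinj : ∀ i {a b : K}, a ^ q ^ i = b ^ q ^ i → a = b := fun i a b h =>
    pow_two_pow_inj (k := k * i) (by rwa [pow_mul, ← hq])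
  have horb : ∀ x a, x ∈ U → Kind q x a → (O x a).card = 2 * deg a ∧
      ∀ y ∈ O x a, y ≠ 1 ∧ R.count y = R.count x ∧ Kind q y a := by
    intro x a hx hk
    obtain ⟨hxR, hx1, hx0⟩ := hmemU hx
    have hkind : ∀ i, Kind q (x ^ q ^ i) a ∧ R.count (x ^ q ^ i) = R.count x := by
      intro i
      induction i with
      | zero => simpa using hk
      | succ i ih =>
        rw [pow_succ, pow_mul]
        exact ⟨ih.1.frob hq, by rw [hfrob, ih.2]⟩
    refine ⟨?_, ?_⟩
    · rw [Finset.card_image_of_injOn, Finset.card_product, Finset.card_range, Finset.card_univ,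
        Fintype.card_bool, mul_comm]
      rintro ⟨i, s⟩ hi ⟨j, s'⟩ hj h
      simp only [Finset.coe_product, Finset.coe_range, Set.mem_prod, Set.mem_Iio] at hi hj
      have main : ∀ i j, i < j → j < deg a → x ^ q ^ i ≠ x ^ q ^ j ∧ x ^ q ^ i ≠ (x ^ q ^ j)⁻¹ := by
        intro i j hij hj
        have e1 : x ^ q ^ j = (x ^ q ^ (j - i)) ^ q ^ i := by
          rw [← pow_mul, ← pow_add, Nat.sub_add_cancel hij.le]
        obtain ⟨h1, h2⟩ := hk.2 (j - i) (by omega) (by omega)
        refine ⟨fun h => h1 (hinj i (e1.symm.trans h.symm)), fun h => h2 (hinj i ?_)⟩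
        rw [← e1, inv_pow, h, inv_inv]
      have hne : ∀ i, x ^ q ^ i ≠ (x ^ q ^ i)⁻¹ := fun i h =>
        hx1 (hinj i ((eq_one_of_eq_inv (pow_ne_zero _ hx0) h).trans (one_pow _).symm))
      rcases lt_trichotomy i j with hij | hij | hij
      · obtain ⟨m1, m2⟩ := main i j hij hj.1
        exfalso
        cases s <;> cases s' <;> simp only [if_true, if_false, Bool.false_eq_true] at h
        exacts [m1 (inv_injective h), m2 (by rw [← h, inv_inv]), m2 h, m1 h]
      · subst hij
        cases s <;> cases s' <;> simp only [if_true, if_false, Bool.false_eq_true] at h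
        exacts [rfl, absurd h.symm (hne i), absurd h (hne i), rfl]
      · obtain ⟨m1, m2⟩ := main j i hij hi.1
        exfalso
        cases s <;> cases s' <;> simp only [if_true, if_false, Bool.false_eq_true] at h
        exacts [m1 (inv_injective h).symm, m2 h.symm, m2 (by rw [h, inv_inv]), m1 h.symm]
    · intro y hy
      obtain ⟨⟨i, s⟩, -, rfl⟩ := Finset.mem_image.1 hy
      have h1 : x ^ q ^ i ≠ 1 := fun h => hx1 (hinj i (h.trans (one_pow _).symm))
      cases s
      · exact ⟨fun h => h1 (inv_eq_one.1 h), by simp only [Bool.false_eq_true, if_false, hinv, (hkind i).2],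
          (hkind i).1.inv⟩
      · exact ⟨h1, (hkind i).2, (hkind i).1⟩
  -- the key inequality
  have hsum : ∀ f : Fin 8 → K, (∀ a ∈ S, f a ∈ U ∧ Kind q (f a) a) →
      R.count 1 + ∑ a ∈ S, 2 * deg a * R.count (f a) ≤ 8 := by
    intro f hf
    have hdisj : (S : Set (Fin 8)).PairwiseDisjoint fun a => O (f a) a := by
      intro a ha b hb hab
      refine Finset.disjoint_left.2 fun y hya hyb => hab ?_
      obtain ⟨hy1, hcy, hka⟩ := (horb _ _ (hf a ha).1 (hf a ha).2).2 y hya
      have hy0 : y ≠ 0 := fun h => by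
        have := Multiset.count_pos.2 (hmemU (hf a ha).1).1
        rw [← hcy, h, Multiset.count_eq_zero.2 h0] at this
        omega
      exact hka.unique hy0 hy1 ((horb _ _ (hf b hb).1 (hf b hb).2).2 y hyb).2.2
    have h1 : (1 : K) ∉ S.biUnion fun a => O (f a) a := fun h => by
      obtain ⟨a, ha, hy⟩ := Finset.mem_biUnion.1 h
      exact ((horb _ _ (hf a ha).1 (hf a ha).2).2 1 hy).1 rfl
    have h2 : ∑ y ∈ insert 1 (S.biUnion fun a => O (f a) a), R.count y =
        R.count 1 + ∑ a ∈ S, 2 * deg a * R.count (f a) := by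
      rw [Finset.sum_insert h1, Finset.sum_biUnion hdisj]
      refine congrArg _ (Finset.sum_congr rfl fun a ha => ?_)
      obtain ⟨hc, hy⟩ := horb _ _ (hf a ha).1 (hf a ha).2
      rw [Finset.sum_congr rfl (fun y hy' => (hy y hy').2.1), Finset.sum_const, hc, smul_eq_mul]
    rw [← h2]
    refine le_trans (Finset.sum_le_sum_of_subset
      (Finset.subset_union_right (s₁ := R.toFinset))) ?_
    rw [← Finset.sum_subset Finset.subset_union_left (fun y _ hy => by
      simpa [Multiset.count_eq_zero] using hy), Multiset.toFinset_sum_count_eq]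
    exact hcard
  choose! g hg using hrep
  have hgU : ∀ a ∈ S, g a ∈ U ∧ Kind q (g a) a := fun a ha => hg a ha
  have hpos : ∀ x ∈ U, 1 ≤ R.count x := fun x hx => Multiset.count_pos.2 (hmemU hx).1
  set m := R.count 1 with hm
  have hbase : m + 2 * ∑ a ∈ S, deg a ≤ 8 := by
    refine le_trans (Nat.add_le_add_left ?_ m) (hsum g hgU)
    rw [Finset.mul_sum]
    exact Finset.sum_le_sum fun a ha => Nat.le_mul_of_pos_right _ (hpos _ (hgU a ha).1)
  -- the largest multiplicity away from one
  set M := max 1 (U.sup fun x => R.count x) with hM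
  have hMspec : M = 1 ∨ ∃ x ∈ U, R.count x = M := by
    by_cases h : U.sup (fun x => R.count x) ≤ 1
    · left; rw [hM]; exact max_eq_left h
    · right
      have hne : U.Nonempty := by
        by_contra hU'
        rw [Finset.not_nonempty_iff_eq_empty.1 hU'] at h
        simp at h
      obtain ⟨x, hx, hxe⟩ := Finset.exists_mem_eq_sup U hne (fun x => R.count x)
      exact ⟨x, hx, by rw [← hxe, hM]; omega⟩
  have hext : M = 1 ∨ ∃ a ∈ S, m + 2 * (∑ b ∈ S, deg b + (M - 1) * deg a) ≤ 8 := by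
    refine hMspec.imp_right ?_
    rintro ⟨x, hx, hxM⟩
    obtain ⟨hxR, hx1, hx0⟩ := hmemU hx
    obtain ⟨a, hka⟩ := exists_kind hq hcard h0 hfrob hinv hxR hx1
    have ha : a ∈ S := Finset.mem_filter.2 ⟨Finset.mem_univ _, x, hx, hka⟩
    refine ⟨a, ha, le_trans (Nat.add_le_add_left ?_ m) (hsum (Function.update g a x) fun b hb => by
      by_cases hba : b = a
      · subst hba; rw [Function.update_self]; exact ⟨hx, hka⟩
      · rw [Function.update_of_ne hba]; exact hgU b hb)⟩
    rw [← Finset.add_sum_erase _ _ ha, ← Finset.add_sum_erase S (fun b => 2 * deg b * _) ha,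
      Function.update_self, hxM]
    have : ∀ b ∈ S.erase a, deg b * 2 ≤ 2 * deg b * R.count (Function.update g a x b) := fun b hb => by
      obtain ⟨hba, hb'⟩ := Finset.mem_erase.1 hb
      rw [Function.update_of_ne hba, mul_comm (deg b)]
      exact Nat.le_mul_of_pos_right _ (hpos _ (hgU b hb').1)
    have h3 := Finset.sum_le_sum this
    rw [← Finset.sum_mul] at h3
    have hM1 : 1 ≤ M := le_max_left _ _
    obtain ⟨M', hM'⟩ := Nat.exists_eq_add_of_le hM1
    rw [hM'] at hxM ⊢
    simp only [Nat.add_sub_cancel_left]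
    nlinarith
  have hMle : M ≤ 4 := by
    rcases hMspec with h | ⟨x, hx, hxM⟩
    · omega
    rcases hext with h | ⟨a, ha, h⟩
    · omega
    have : 1 ≤ deg a := Nat.succ_pos _
    have h5 : deg a ≤ ∑ b ∈ S, deg b := Finset.single_le_sum (fun b _ => Nat.zero_le (deg b)) ha
    nlinarith [Nat.sub_add_cancel (le_max_left 1 (U.sup fun x => R.count x))]
  obtain ⟨t, ht, htM, htm⟩ := covered S ⟨m, by omega⟩ ⟨M, by omega⟩ (le_max_left _ _) hbase hext
  refine ⟨t, fun x hx => ?_, fun x hx => ?_, htm⟩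
  · by_cases hx1 : x = 1
    · rw [hx1, one_pow]
    obtain ⟨a, hka⟩ := exists_kind hq hcard h0 hfrob hinv hx hx1
    have hxU : x ∈ U := by rw [hU, Finset.mem_erase, Multiset.mem_toFinset]; exact ⟨hx1, hx⟩
    obtain ⟨c, hc⟩ := val_dvd_od hq1 t a (ht a (Finset.mem_filter.2 ⟨Finset.mem_univ _, x, hxU, hka⟩))
    rw [hc, pow_mul, hka.pow_val (fun h => h0 (h ▸ hx)) hq1, one_pow]
  · by_cases hx1 : x = 1
    · rw [hx1, ← hm]
      refine le_trans ?_ htm
      show m ≤ need m
      unfold need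
      split_ifs <;> omega
    · refine le_trans (le_trans ?_ (le_max_right _ _)) htM
      exact Finset.le_sup (f := fun x => R.count x) (by rw [hU, Finset.mem_erase, Multiset.mem_toFinset]; exact ⟨hx1, hx⟩)

end Field

end Cfsg.Agent.Lib.Elem70.SpecEight
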